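import Cfsg.Agent.Lib.McR.H

/-! Relators of the amalgam for `McL`; small coset enumerations; models of `2⁴:A₇` (generated). -/

set_option autoImplicit false
set_option maxRecDepth 1000000
set_option maxHeartbeats 0

namespace Cfsg.Lib.McR

open Cfsg.Lib.Calc Cfsg.Lib.Grp Cfsg.Lib.T2

/-- relators of a Sylow 2-subgroup -/
def relS : List W := [.pow (.mul (.l 1) (.l 2)) 4, .pow (.mul (.l 1) (.l 3)) 4, .pow (.mul (.l 2) (.l 3)) 4, .mul (.mul (.mul (.mul (.mul (.mul (.mul (.mul (.mul (.l 1) (.l 2)) (.l 1)) (.l 3)) (.l 1)) (.l 3)) (.l 2)) (.l 3)) (.l 1)) (.l 3), .mul (.mul (.mul (.mul (.mul (.mul (.mul (.mul (.mul (.mul (.mul (.l 1) (.l 2)) (.l 1)) (.l 3)) (.l 2)) (.l 1)) (.l 3)) (.l 2)) (.l 1)) (.l 3)) (.l 2)) (.l 3)]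

def tcS_F : Tr := .leaf (nat_lit 0x17b17f0fd0ff1fa1fe0f70fe17517d1f41fc0f10fc1f21fb0f40fa16e1790eb0f91f51f80e80f81ec1f60df0f31621730dc0f21e01f01dd1ef0e20ee1d91ed0de0ed0da0ec1d81ea0e10ea1e31e90d00e91d21e70e00e614c1661e11e51de1e40c00dd1c21db13c15a1bb1d70be0d71bd1d60bc0d60c50d50c10d41ba1d40b50d30c40d11b81cf0bf0cf0c70ce1c61cd0c60cc1c71cb1c41ca1bf1c80a80c31a51b70a60b619f1b40a20b40a90b31aa1b211d1310a70af1a71ac11512409309b08e0961ff1f717e1761fd1f117c1700fb0ef17a16b1f91e81781671771650f60e40f50e317415f1f31dc17215b1711590f00d816f1551ee1d316d15216c1511eb1d016a14e16914d16814b0e70ca1e61c90e50c91641481631451e21c31611421601411df1c015e13e15d13d15c13b0db0ba1da1b90d90b91581381571371561361d51b51541331531320d20b11d11b015013014f12f1ce1ae0cd0ae1cc1ad0cb0ad14a12c14912b0c80ab14712a1461291c51a81441261431250c20a41c11a314012313f1221be1a10bd0a11bc1a00bb0a013a11f13911e0b809e0b709d1b619c13511c13411b1b319a0b209a1b11990b00991af19812e11812d1170ac0971ab1960aa0951a91941281141271131a61920a50921a41910a30911a219012111012010f09f08f19e18e19d18d09c08d19b18c11a10c11910b09808b19718a11610a19518909408919318811210811110709008718f18610e10610d10508c08518b18408a084109103088083187182086082185181104101183180102100081080000000)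
def tcS_T : Tr := .leaf (nat_lit 0xfffbefcf7ebcf8efdbaf4e7cb8f0dfbb6ecd7ab4e8cf9b2e4c78b0e0bf7aedcb76acd8af5aad4a74a8d09f3a6cc972a4c88f1a2c4870a0c07ef9ebc76e9cb86ed9ab466c98b05eb96ac56a94a84e992a446890a03e78e9c3668c982e58a9426488901e3868c16284880e182840608080)
def tcS_P : Tr := .node (.node (.leaf (nat_lit 0x5b4ba6282231250a00402b4390f0381f209e4000095d172513628ad9a9e0ee01c06ae370e8726d56cdcf47d00403561b0701a050080a0f1090cf602c08ac8a9304827811a6263e209e401011552c53190cf0f291451601006a887948502b821208e830040354198683734c4cea00404a6320d0301b1c9ac000014460190c4bf09832563a010069e2f0c02c1516c047a7100e034f4249d0234c44fe000009c4dc8e40984bc7c00005345c180582a2f2da664200c06984bc7d1d0c3219e1e8d000034b168b307270982013159551e00c0894839384c2526a2400809205680870180f10914fe01406862509020131494400000dc3a1c9b62a4c25801009b0701a0c8de0626129340200cd0360c02804050687c7e01c06688189820060283c424500403331961a54150a4a600002641a06014020384c565500603310c82c080586c76000045e180582a2f2cc1c00004b02e0a02004070889c9e0140648110380807098ac000086c18050080e1113800008b02808010141a1d00000))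
  (.leaf (nat_lit 0xff800ff800ff800ff800ff800ff800ff800ff800ff800ff800ff800ff800ff800ff800ff800ff800ff800ff800ff800ff800ff800ff800ff800ff800ff800ff800ff800ff800ff800ff800ffbf9dd45614f9cb7200002)))
  (.leaf (nat_lit 0x7f5eafb71bb5d5f600002fcb3b6144a16bbd400809f8ec6424126cb77800003e9c5586d529e36b000027c57d808240afdd200404f8702c0e07359b8c00001ed5da0afec8e6b000100bd2d96fadd8acae900000793423e8e8629dba00004f2b45add54ea6b5c00005e14b52188c2a1a653dd601c06f067250b05b4bb4400001d943ab56564b5aa00100b9ac0e45b4ba628240afc0200dccb89d2ba2e8762800013916c741f104eeb9000007054aa344653369200402de551a8daad9baec00809b92d55ccd15186280000b6a94ce8eca9b3555a2cc0380db4a4859bd5f395e8000036256888a2b66b3c000006a270b85f4fca56200404d492a38a90442b0c00001a52346148a28b6380101349345c180ccc2a1000006747654a23018d4a00402cc65d15853e5b4ba62c10000366248ac2c1796d3200004ca49246367e22080464942b0c01811911b3f110867d5e801012e8f4421008c8e8100000))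
def tcS_N_0 : Tr := .node (.node (.node (.node (.leaf (nat_lit 69861442625))
  (.leaf (nat_lit 4100)))
  (.node (.leaf (nat_lit 66))
  (.leaf (nat_lit 231))))
  (.node (.node (.leaf (nat_lit 0x1886110c2218441))
  (.leaf (nat_lit 198)))
  (.leaf (nat_lit 99))))
  (.node (.node (.node (.leaf (nat_lit 105329559650))
  (.leaf (nat_lit 165)))
  (.node (.leaf (nat_lit 2050))
  (.leaf (nat_lit 0))))
  (.node (.node (.leaf (nat_lit 33))
  (.leaf (nat_lit 6150)))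
  (.leaf (nat_lit 132))))
def tcS_N_1 : Tr := .node (.node (.node (.node (.leaf (nat_lit 104254768225))
  (.leaf (nat_lit 165)))
  (.node (.leaf (nat_lit 66))
  (.leaf (nat_lit 7175))))
  (.node (.node (.leaf (nat_lit 33))
  (.leaf (nat_lit 198)))
  (.leaf (nat_lit 3075))))
  (.node (.node (.node (.leaf (nat_lit 106757956404289))
  (.leaf (nat_lit 5125)))
  (.node (.leaf (nat_lit 99))
  (.leaf (nat_lit 0))))
  (.node (.node (.leaf (nat_lit 1025))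
  (.leaf (nat_lit 231)))
  (.leaf (nat_lit 132))))
def tcS_N : Tr := .node tcS_N_0
  tcS_N_1
noncomputable def tcS : TC :=
  ⟨[.l 0, .l 1, .l 2, .l 3, .l 4, .l 5, .l 6, .l 7],
    (nat_lit 7), (nat_lit 9), (nat_lit 247132686368), (nat_lit 1), (nat_lit 128), (nat_lit 0), (nat_lit 32), (nat_lit 3), (nat_lit 28),
    get (nat_lit 10) (nat_lit 0x1003010030080400c02010030080400c02010030080400c02010030080c0280802008), Tr.get tcS_N, get (nat_lit 20) (nat_lit 0x3ff003ff003ff003ff003ff003ff003ff003ff003ff003ff003ff003ff003ff003ff003ff003ff003ff003ff003ff003ff003ff003ff003ff0000400003000020000100000),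
    Tr.get3 tcS_F (nat_lit 24) (nat_lit 5), Tr.get3 tcS_T (nat_lit 7) (nat_lit 7), Tr.get tcS_P⟩

theorem tcS_head : tcS.headOK relS iv = true := by decide +kernel

theorem tcS_b0 : allFrom (nat_lit 0) (nat_lit 3) tcS.blockOK = true := by decide +kernel

def tcS_Q3 : Tr := .leaf (nat_lit 0x7fdf1f776b95f5e76a7f59ad77773dcdf55eae376b1676bd4a9cf2a53368942a7b168b5f5fd0ebae69f2d6b3539d4d9572e6e52d46d69427644998f471991a8fc8d171d624fd06be8d9f66e799dcbd69298b1b5551233c30c6a22fa7131062bc34a68a839362e4941114f878898f4766c1b998c45e1795856521393090440f8f074360b8b85426078781616038381406)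
theorem tcS_f3_0 : allFrom (nat_lit 0) (nat_lit 128) (tcS.finOK (nat_lit 128) (Tr.get3 tcS_Q3 (nat_lit 9) (nat_lit 6)) (nat_lit 3)) = true := by
  decide +kernel

def tcS_Q2 : Tr := .leaf (nat_lit 0xc03f6f0f9c0bd6dcf177bf2f2e9b1395c6f86fdbdb6d97a355a6d178519dcc963d8d86c1742f576b9724f1c4b157ab5bca953b69b0a14fb51a5476825526c847a358c8943b0980813faf1753d5c1d4e6b0572b0d6695429a14a04f174b69449239185127a210d04401f886413a1ca166a340d4665c2d0b60a50270944642200743634190b02624110703409090141004)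
theorem tcS_f2_0 : allFrom (nat_lit 0) (nat_lit 128) (tcS.finOK (nat_lit 128) (Tr.get3 tcS_Q2 (nat_lit 9) (nat_lit 6)) (nat_lit 2)) = true := by
  decide +kernel

def tcS_Q1 : Tr := .leaf (nat_lit 0xbf5eaff747bdc2d968bdbb5d771b2582eae17b56aad54b6d42996967d2196ec7556ea349b2d5e81615bd5566e09c4d2653096296554d9349137204bb39949192c86672b8c216634193ce4f7353bad9647137c525b10871954861842692c59481561f1984c54968423c44f4761f9c0dc3981190c0312c400a829819288c211f4047019180545011100343014080300602)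
theorem tcS_f1_0 : allFrom (nat_lit 0) (nat_lit 128) (tcS.finOK (nat_lit 128) (Tr.get3 tcS_Q1 (nat_lit 9) (nat_lit 6)) (nat_lit 1)) = true := by
  decide +kernel

theorem tcS_blocks : ∀ t < tcS.k, tcS.blockOK t = true :=
  (of_allFrom_append of_lt_zero tcS_b0)

/-- index 128 max 128 total 128 facts 193 | needed cosets 128 facts 193 steps 507 trivial 0 -/
theorem tcS_index {G : Type*} [Group G] {γ : ℕ → G} (hL : Lab γ iv) (hr : ∀ t ∈ relS, t.ev γ = 1) {K : Subgroup G}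
    (hK : ∀ t ∈ ([] : List W), t.ev γ ∈ K) :
    K.relIndex (genW γ [.l 1, .l 2, .l 3]) ≠ 0 ∧ K.relIndex (genW γ [.l 1, .l 2, .l 3]) ≤ 128 :=
  TC.relIndex_le (D := tcS) (gens := [1, 2, 3]) hL (List.forall_mem_cons.2 ⟨hL.zero_mem K, hK⟩) hr tcS_head tcS_blocks (by decide) (by decide)
   (List.forall_mem_cons.2 ⟨⟨_, (of_allFrom_append of_lt_zero tcS_f1_0)⟩,
    List.forall_mem_cons.2 ⟨⟨_, (of_allFrom_append of_lt_zero tcS_f2_0)⟩,
    List.forall_mem_cons.2 ⟨⟨_, (of_allFrom_append of_lt_zero tcS_f3_0)⟩,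
    fun _ h => absurd h List.not_mem_nil⟩⟩⟩)

/-- the relators of `s` -/
def relB : List W := [.mul (.mul (.mul (.l 7) (.l 3)) (.inv (.l 7))) (.inv (.mul (.mul (.l 2) (.l 3)) (.l 2))), .mul (.mul (.mul (.l 7) (.mul (.l 5) (.l 2))) (.inv (.l 7))) (.inv (.inv (.mul (.l 5) (.l 2)))), .pow (.mul (.l 2) (.l 7)) 3, .mul (.mul (.mul (.l 7) (.l 1)) (.inv (.l 7))) (.inv (.mul (.l 1) (.mul (.pow (.mul (.l 1) (.mul (.mul (.l 2) (.l 3)) (.l 2))) 2) (.pow (.mul (.l 1) (.l 3)) 2))))]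

/-- relators of a parabolic subgroup -/
def relP1 : List W := relS ++ [.mul (.mul (.mul (.mul (.mul (.l 1) (.l 3)) (.l 1)) (.l 4)) (.l 3)) (.l 4), .pow (.mul (.l 1) (.l 4)) 3, .mul (.mul (.mul (.mul (.mul (.l 1) (.l 5)) (.l 4)) (.l 2)) (.l 4)) (.l 5), .pow (.mul (.l 2) (.l 5)) 3, .pow (.mul (.l 4) (.l 5)) 3, .mul (.mul (.mul (.mul (.mul (.mul (.l 2) (.l 3)) (.l 2)) (.l 3)) (.l 5)) (.l 3)) (.l 5), .pow (.mul (.mul (.mul (.l 1) (.l 2)) (.l 1)) (.l 4)) 2, .pow (.mul (.mul (.mul (.l 1) (.l 2)) (.l 5)) (.l 2)) 2, .mul (.mul (.mul (.mul (.mul (.mul (.mul (.mul (.l 1) (.l 2)) (.l 1)) (.l 2)) (.l 3)) (.l 4)) (.l 3)) (.l 2)) (.l 4)]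

def tcP1_F : Tr := .leaf (nat_lit 0xc4341d0742d0b424c94148532c0b31cc732c4b2248921c872138511c47112c50240901c0702a8af23c8f1bc6f2acae1b86e2b4ad1244d1b46d0a02c1b06c2b0ac22c8b1ac6b1284a1a86a298a91a4691a0682a0a819c6709c2711846198660942519465294a5190640902410c4320c8318c63188620882210441184611806010040080201504f0cc2e0c82d2448c0c02a0bc292388823487130470ac2622885224841204429ca32188211442290a108c21288a02048000000)
def tcP1_T : Tr := .leaf (nat_lit 0x149ca307b9ac5a928398a418820)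
def tcP1_P : Tr := .node (.leaf (nat_lit 0x1c1013571700a071c6463651d008051a0e3b0f1b002091a0e060913006071a4d4f4d1b00805180e3d063309110000c180e390f4f190020a180e3d0f1900208160c350d1700206160c370d1700205144347431500607144745471500805120802050d00209123f413f13008051008310941110020a1008330911002080e393d393d0f00a0a0e3b3d3b0f000070c042b050d006070c3537350d008050a042d2b2d050b0000c0a042f05370b0020a0a042d050b0020808313331330900a0a08022d03090000706022b2d2b03070020b06022b03070020606022f030700205042f2d2f2d0500a0a04033302050000730022f2d2b2d2b0300e0d022b2f2b0300805))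
  (.leaf (nat_lit 0x1ff001ff001ff001ff001ff001ff001ff001ff001ff001ff001ff001ff001ff001ff281e68258a267e000002875597471290020a28755b742900208287375218800807261c64184d1b250020b266f5f7a7900207261c531d2700205246b1a192300207241a4d1b2500206241a4f1b2500205226165511d006072265536423008052014470a350d170020b2014471521002062014451521002051e570c0b15002071e123f131f002061e1241131f00205))
def tcP1_N_0 : Tr := .node (.node (.node (.node (.leaf (nat_lit 69861442625))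
  (.leaf (nat_lit 231)))
  (.leaf (nat_lit 1025)))
  (.node (.leaf (nat_lit 170035362))
  (.leaf (nat_lit 132))))
  (.node (.node (.node (.leaf (nat_lit 0x1886110c2218441))
  (.leaf (nat_lit 0)))
  (.leaf (nat_lit 99)))
  (.node (.leaf (nat_lit 74156414017))
  (.leaf (nat_lit 5125))))
def tcP1_N_1 : Tr := .node (.node (.node (.node (.leaf (nat_lit 105329559650))
  (.leaf (nat_lit 7175)))
  (.leaf (nat_lit 66)))
  (.node (.leaf (nat_lit 5474715746))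
  (.leaf (nat_lit 165))))
  (.node (.node (.leaf (nat_lit 135398529))
  (.leaf (nat_lit 3075)))
  (.node (.leaf (nat_lit 33))
  (.leaf (nat_lit 198))))
def tcP1_N_2 : Tr := .node (.node (.node (.node (.leaf (nat_lit 104254768225))
  (.leaf (nat_lit 231)))
  (.leaf (nat_lit 66)))
  (.node (.leaf (nat_lit 172134564))
  (.leaf (nat_lit 4100))))
  (.node (.node (.leaf (nat_lit 137495649))
  (.leaf (nat_lit 99)))
  (.node (.leaf (nat_lit 4470124643393))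
  (.leaf (nat_lit 198))))
def tcP1_N_3 : Tr := .node (.node (.node (.node (.leaf (nat_lit 106757956404289))
  (.leaf (nat_lit 0)))
  (.leaf (nat_lit 2050)))
  (.node (.leaf (nat_lit 138580984897))
  (.leaf (nat_lit 165))))
  (.node (.node (.leaf (nat_lit 172036257))
  (.leaf (nat_lit 132)))
  (.node (.leaf (nat_lit 33))
  (.leaf (nat_lit 6150))))
def tcP1_N : Tr := .node (.node tcP1_N_0
  tcP1_N_1)
  (.node tcP1_N_2
  tcP1_N_3)
noncomputable def tcP1 : TC :=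
  ⟨[.l 0, .l 1, .l 2, .l 3, .l 4, .l 5, .l 6, .l 7],
    (nat_lit 5), (nat_lit 8), (nat_lit 247132686368), (nat_lit 15), (nat_lit 21), (nat_lit 3), (nat_lit 32), (nat_lit 2), (nat_lit 37),
    get (nat_lit 10) (nat_lit 0x400c0400c02010030080400c02010030080400c02010030080400c02024080200701806018060180c0280802008), Tr.get tcP1_N, get (nat_lit 20) (nat_lit 0x3ff003ff003ff003ff003ff003ff003ff003ff003ff003ff003ff003ff003ff003ff003ff003ff003ff003ff003ff003ff003ff003ff003ff0000d0000c0000b0000a00009000080000700006000050000400003000020000100000),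
    Tr.get3 tcP1_F (nat_lit 20) (nat_lit 5), Tr.get3 tcP1_T (nat_lit 5) (nat_lit 7), Tr.get tcP1_P⟩

theorem tcP1_head : tcP1.headOK relP1 iv = true := by decide +kernel

theorem tcP1_b0 : allFrom (nat_lit 0) (nat_lit 2) tcP1.blockOK = true := by decide +kernel

def tcP1_Q5 : Tr := .leaf (nat_lit 0x8e88848589746e6a606f7556500f5742090e050804)
theorem tcP1_f5_0 : allFrom (nat_lit 0) (nat_lit 21) (tcP1.finOK (nat_lit 21) (Tr.get3 tcP1_Q5 (nat_lit 8) (nat_lit 6)) (nat_lit 5)) = true := by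
  decide +kernel

def tcP1_Q4 : Tr := .leaf (nat_lit 0x8c8d822378721d1b225e15131c1a0d14123a0c0302)
theorem tcP1_f4_0 : allFrom (nat_lit 0) (nat_lit 21) (tcP1.finOK (nat_lit 21) (Tr.get3 tcP1_Q4 (nat_lit 8) (nat_lit 6)) (nat_lit 4)) = true := by
  decide +kernel

def tcP1_Q3 : Tr := .leaf (nat_lit 0x9086807c76706c66625c5854524e4844403836302e)
theorem tcP1_f3_0 : allFrom (nat_lit 0) (nat_lit 21) (tcP1.finOK (nat_lit 21) (Tr.get3 tcP1_Q3 (nat_lit 8) (nat_lit 6)) (nat_lit 3)) = true := by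
  decide +kernel

def tcP1_Q2 : Tr := .leaf (nat_lit 0x298a8b7e7a287f68197b5a6911184a0b103c0a322c)
theorem tcP1_f2_0 : allFrom (nat_lit 0) (nat_lit 21) (tcP1.finOK (nat_lit 21) (Tr.get3 tcP1_Q2 (nat_lit 8) (nat_lit 6)) (nat_lit 2)) = true := by
  decide +kernel

def tcP1_Q1 : Tr := .leaf (nat_lit 0x92272593211f26246417201e654c16463e0734062a)
theorem tcP1_f1_0 : allFrom (nat_lit 0) (nat_lit 21) (tcP1.finOK (nat_lit 21) (Tr.get3 tcP1_Q1 (nat_lit 8) (nat_lit 6)) (nat_lit 1)) = true := by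
  decide +kernel

theorem tcP1_blocks : ∀ t < tcP1.k, tcP1.blockOK t = true :=
  (of_allFrom_append of_lt_zero tcP1_b0)

/-- index 21 max 21 total 21 facts 74 | needed cosets 21 facts 74 steps 272 trivial 0 -/
theorem tcP1_index {G : Type*} [Group G] {γ : ℕ → G} (hL : Lab γ iv) (hr : ∀ t ∈ relP1, t.ev γ = 1) {K : Subgroup G}
    (hK : ∀ t ∈ ([.l 1, .l 2, .l 3] : List W), t.ev γ ∈ K) :
    K.relIndex (genW γ [.l 1, .l 2, .l 3, .l 4, .l 5]) ≠ 0 ∧ K.relIndex (genW γ [.l 1, .l 2, .l 3, .l 4, .l 5]) ≤ 21 :=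
  TC.relIndex_le (D := tcP1) (gens := [1, 2, 3, 4, 5]) hL (List.forall_mem_cons.2 ⟨hL.zero_mem K, hK⟩) hr tcP1_head tcP1_blocks (by decide) (by decide)
   (List.forall_mem_cons.2 ⟨⟨_, (of_allFrom_append of_lt_zero tcP1_f1_0)⟩,
    List.forall_mem_cons.2 ⟨⟨_, (of_allFrom_append of_lt_zero tcP1_f2_0)⟩,
    List.forall_mem_cons.2 ⟨⟨_, (of_allFrom_append of_lt_zero tcP1_f3_0)⟩,
    List.forall_mem_cons.2 ⟨⟨_, (of_allFrom_append of_lt_zero tcP1_f4_0)⟩,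
    List.forall_mem_cons.2 ⟨⟨_, (of_allFrom_append of_lt_zero tcP1_f5_0)⟩,
    fun _ h => absurd h List.not_mem_nil⟩⟩⟩⟩⟩)

/-- more relators of the parabolic subgroup -/
def relQ1 : List W := [.mul (.mul (.mul (.mul (.mul (.l 1) (.l 3)) (.l 1)) (.l 4)) (.l 3)) (.l 4), .pow (.mul (.l 1) (.l 4)) 3, .mul (.mul (.mul (.mul (.mul (.l 1) (.l 5)) (.l 4)) (.l 2)) (.l 4)) (.l 5), .pow (.mul (.l 2) (.l 5)) 3, .pow (.mul (.l 4) (.l 5)) 3, .mul (.mul (.mul (.mul (.mul (.mul (.l 2) (.l 3)) (.l 2)) (.l 3)) (.l 5)) (.l 3)) (.l 5), .pow (.mul (.l 1) (.l 2)) 4, .pow (.mul (.mul (.mul (.l 1) (.l 2)) (.l 1)) (.l 4)) 2, .mul (.mul (.mul (.mul (.mul (.mul (.mul (.l 1) (.l 2)) (.l 4)) (.l 1)) (.l 4)) (.l 2)) (.l 1)) (.l 4), .pow (.mul (.mul (.mul (.l 1) (.l 2)) (.l 5)) (.l 2)) 2, .pow (.mul (.mul (.mul (.l 1) (.l 4)) (.l 2)) (.l 4)) 2, .mul (.mul (.mul (.mul (.mul (.mul (.mul (.l 1) (.l 4)) (.l 2))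 (.l 4)) (.l 1)) (.l 5)) (.l 1)) (.l 5), .mul (.mul (.mul (.mul (.mul (.mul (.mul (.l 1) (.l 5)) (.l 2)) (.l 4)) (.l 2)) (.l 4)) (.l 2)) (.l 5), .pow (.mul (.l 2) (.l 4)) 4, .mul (.mul (.mul (.mul (.mul (.mul (.mul (.mul (.l 1) (.l 2)) (.l 1)) (.l 2)) (.l 3)) (.l 4)) (.l 3)) (.l 2)) (.l 4), .mul (.mul (.mul (.mul (.mul (.mul (.mul (.mul (.l 1) (.l 2)) (.l 1)) (.l 2)) (.l 4)) (.l 2)) (.l 3)) (.l 4)) (.l 3), .mul (.mul (.mul (.mul (.mul (.mul (.mul (.mul (.l 1) (.l 2)) (.l 1)) (.l 2)) (.l 5)) (.l 3)) (.l 1)) (.l 3)) (.l 5), .mul (.mul (.mul (.mul (.mul (.mul (.mul (.mul (.l 1) (.l 2)) (.l 3)) (.l 1)) (.l 3)) (.l 2)) (.l 4)) (.l 2)) (.l 4), .mul (.mul (.mul (.mul (.mul (.mul (.mul (.mul (.l 1) (.l 2)) (.l 3)) (.l 1)) (.l 3)) (.l 4)) (.l 2)) (.l 4)) (.l 2), .pow (.mul (.mul (.mul (.mul (.l 1) (.l 3)) (.l 1)) (.l 3)) (.l 5)) 2, .mul (.mul (.mul (.mul (.mul (.mul (.mul (.mul (.mul (.l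 1) (.l 3)) (.l 5)) (.l 4)) (.l 2)) (.l 4)) (.l 5)) (.l 4)) (.l 3)) (.l 4)]

/-- fixed point free elements and their orders -/
def fpf1 : List (W × ℕ) := [(.mul (.mul (.mul (.mul (.l 3) (.l 4)) (.l 5)) (.l 7)) (.l 4), 3), (.mul (.mul (.mul (.l 1) (.l 4)) (.l 5)) (.l 7), 5), (.mul (.mul (.mul (.l 1) (.l 5)) (.l 4)) (.l 7), 5), (.mul (.mul (.mul (.l 2) (.l 4)) (.l 7)) (.l 5), 5), (.mul (.mul (.mul (.l 2) (.l 5)) (.l 4)) (.l 7), 6), (.mul (.mul (.mul (.mul (.l 1) (.l 2)) (.l 4)) (.l 7)) (.l 5), 5), (.mul (.mul (.mul (.mul (.l 1) (.l 4)) (.l 5)) (.l 4)) (.l 7), 5), (.mul (.mul (.mul (.mul (.l 2) (.l 4)) (.l 5)) (.l 2)) (.l 7), 5)]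

/-- relators of `2⁴:A₇` -/
def relM1 : List W := relB ++ relQ1 ++ fpf1.map fun p => .pow p.1 p.2

def tcM1_F : Tr := .leaf (nat_lit 0x2871434e1270c006823cb1e50e3859c3881a40e105883421410d006006801005e3829c14e0e7043819c0ce14706003007c0b800e014017001c028014023401c02b006014003c00d006814c01c08d00600d001206400f014c078009004815400a02d002805c00803001801c000c01500a82300e000400b01c000e03e008801400a017002005803000700380f800e06f007800c00601300a807c02201700580bc00c08c020017c06805000b80b405a09801600ac06406103200f00aa06404300e810208602a80f00b207e02c009c03003e008001c00e06f00801bc02600f007825801405b01080c407408100b8260054033016825c10e04e01681b405c04b00b01b002609600f813402e06202a01f40ae077022009002607a025010808a0462a5150c044048039010c0f207203c810c0f804802501cc4e828013309fc13607f23d9274af059e14e0a7833616b3c51e6c2ba18a045024053428b0b5066873239924c12605302852b2165cef479614b0a5872a3952ca1650f18794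0b0064c7263933af1e3c7243921c88e4471c38e3c69d842c618d2af96344b628c1c50e282b81891c48e24710388243121c504286231920c5062842a9961030418422a92084a028122712042e017e0b685f4a9c57d13909f049827b0b105e8a9a57a2a515e429217812589dc6ee3770ba85d82901731b90dc828c1723b71db8adc5713b61dbca8256f0b605bc6dc36e22211b0eba76b135097827e16929c95a46d036809c059c6ce3671b28d9426e1652a8158c6c436212f89846c23611af8d7c6bc35e1ae8d74eb674d0a8856ca6255b1ad0d682601591ac8d646ae357222915c6ac3561aa8d5425e15511b09508844541aa0d504822531a88d4447624f118893469a34d09f052ca4e54b1a58d2c690348121091c68e3471a28d142861451a20d1024a1441a18d0c8524431a10d08e4c7402941500a7a53f19f8cfc67c33e19e8cf485043d08f84e846823a29494e867033819b8cdc84643619b0cd845a23519a8cd4e6871d09604d04562331998ccc25413228d94c86623311980cc065e32f1970cb865a32d3961c6445422c1958caca2e52a08d84a465232911408742341281940ca04342261930c98a2c5261928c9464832420b10906443223909c5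443e2211900c80a2651f105887863c31e18e8c7423211d10c087063831c18d8c6c63431a086043861c30e08b844c632319106886463031838b9c5c62e317089043461a30d1860c30a1850c204903022011618b0c5861630b084842c81440b18a8c5442421518a0c50e267131898c4c6243121850c28a1450a08784446223111848c246203101840c2080c408083042040a207203901c60e3071878c3c60c306202901460a3051020810608304101880c6063030810408a045013811c08604302080840460230128014008004001800c00400200080040093c46714e899c93846614d8998f3476514c8994f3076224b9188b2c56024a91805282603c99d7c92445e0c8857832015d2c7957091c45c24691689184582c595585142563c49d545102552c39550f0c7532c295489084513c19d3cb0454f0c08534b0054c23f9130efc74b23e91282f814a2bd95248f444813c8920ef074723b91184ec24613a8910ee87432b9950cae454213888fcee073e23790f84dc23e2b694f0ad853b13588e0ed473723490dc4d02373b39cd8ecc7352b294d48c84343b19cccac45330b084ccec07310af84c4abc53012e88c0eb872f22d90bc4b422f3ac9cb8ab052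e12b88b8eac72d2aa94b42a812d22990b0ea472b2a894ac2a012b22790a829c1272269098e9872522590944942253a49c90a905240a38490a8c523122888ca885221218888284122220908428012139f9c80a7c52011e888027812021d907ce7471e21c9074e7071c29b947026c11c21a906ca6851a2199068e6470e2189064e60718297946025c118216905ca5850d2159034e5470c1148858e5070b213905424c11529294504482140918450844413290944884041238f9c2823c10a28e944483841110d8844e347091070824a3251020c104042e2103869c2041820838b1c1ca1650728a943c82840f109883ce247061050818e227052849414e20704284141020e1043879c0ca0c503082840c80840220190044042013809c00000000)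
def tcM1_T : Tr := .leaf (nat_lit 0x9e9d9c9b9a999897969594939291908f8e8d8c8b8a898887868584838281807f7e7d7c7b7a797877767574737271706f6e6d6c6b6a696867666564636261605f5e5d5c5b5a595857565554535251504f4e4d4c4b4a494847464544434241403f3e3d3c3b3a393837363534333231302f2e2d2c2b2a292827262524232221201f1e1d1c1b1a1817161311100f0e0c0a07191514120d0b090806050403020100)
def tcM1_P : Tr := .node (.node (.node (.node (.leaf (nat_lit 0x2258c1f5fc1e08c0282422039570341d00401081765d577084020101e0395703c1f002020780e5540f07c020001c06d7b0681d002000680c5540d5841b002090680c55c0d06c0081c185a1655a40a55d5555c0b5740a5540f0020306168595690640080016575685956905c028241456d5956c15002000495956d5956c1300a09048085400703400020120200401c0d000060400854c0452c0702c0082c100215302411002050400853409044008100e55d5555c0f002000315555d5555c0d00a090280652c0702c008140a0194901c0b002040215052d51024018180854d4d54c09008040195154d5001c018180652d4952c0700804011510114a0155001400034025014600c0500201010025040301400808040094300c05008000094150d414fd4150d414fd434fd4300c0080c02505435040300200))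
  (.leaf (nat_lit 0x10dd187480234e0b42000362ab8105e008bb53dfc000db5ddb8000db7add0000daa4d065180222ddb59000364633e13a008af6adc8000d8e0dc42780234cf76800036db35d000360b33a5a60089591ce81080222d9b3d0003637f6559e008af37ce8000db60cd0000d980cd00e802346f73408e008b9a6cd176802222df31622008aec1cc41a802252fb2f2060088aa8cb60980225d432b00036b8b2b16e008adf4ca5e08022530b297c20088b43d20000dadec9cab8022e)))
  (.leaf (nat_lit 0xdc1f07f38e850000138a151e87d3740081cde1f0406682a5b40c0194b0094551d454fc0301c0d5b16b074411f4df9fc0207cde1f04010c830020837a3225a209e800014dc1f1bf1f61137400824d81d9bd1148900008358706cc612ec00808bc181b21bcd50040134a0334e731c9d78321484c00060d21b8380ec73002083406e6c46f80cd10020933a428fe431b1b3685b21b5ff1b1b11c40080cce90a3f90ccf00200329fb7f5e57f0cb00a093286a0d8391bc00018c6199d013022038060155354002515414fd4700c0755c0b05c3519df528402078c47cdf577df431402824c2199d4759b518cbf0020b308666b46730c00810be189a518cbf002042f1eb2ee5b2e8bd00a092e860684612ec020009a73591050085414a009445193e00c070356a0ac5728e560061b2d9e92de55189a315ca38ec00060b61782e0c463002082d05e6845f7a4b5002092c8af934ae171b26c5b3175e7171a11840080cb22be4d2b8b3002002b85c6c86d8048b89e4a008122b85c0b99014e1c89001030ac7f1fb7f4ad00200)))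
  (.node (.leaf (nat_lit 0x746ec2409c53002011c1b3685b21c4008006e6c5b3685b21bc028246c0e17708447002051b0385d4391b4008106a7b9f17745b006061a9da765db1ac02011d7749d66d5a3661a26d1b66d5a478df6000031a0677d4561640001866741cd6443168c5700810199d474dd519c02010640c9730cdab0a16f0a5aa6a5ab65c550020319032058190dc00804626d1b76d46300804181b26c5b3184008005e685b26c5b317c028245c0b9710bc5d00204169a65fda716c02011a30a829155e0002021602a0a595154010045666d7d668570080415028048150b400804526442d6981e5d8370000a148265942714c020003a061680945100401141ba6e5bb62c336a4326298d62d730d40080c506e9b96ec5100200734265a4170d4010044c61c2207da70b190730038504c08821125c70020612983125c91204b00a091202007da70b19063dc600c13))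
  (.leaf (nat_lit 0x303c10000da9ec00f38022539effa5a008ba8cbfcf980222398e9bf1002609580401400ffbeccc7f4abaaab44323da00de376873707c1018470dc16f44521ce900620be536000253fa9cbd93a4f6f34e137800114e93dbd6953dc020193c9bc701bcd39d47e1f4df9fe82a048220619735c623cf10041a4f26d9be0535ef14d93900c169e4ba7a8bbbb11492115bb65abb2bebb80080d36331fd2b51500202ba92000022480ba2f677b9ae8459158020d458ac7f0cb4d401005344cee54ca6934671342689ae6980cd5002034c8ca7eccb9ad3300209b810a2905668830050080115153809568130ac577d0c54c4008710a291f431531004014b8c419869324008212c4aed94a8c0950b67a4b7962983d22d3d4018652c4a6d74a12d000074aad2b46d34ac02012d5b065530529002014a0c08da59b00008092698a6198cbe8da358dcbf97cbe7b4c10020349a629866349c008011e476c8470b81782e5c02f184bd496cc490018652448ecb4892500804488bc7ae5093e512f65d48c0085d1caf2bbaf51d00804))))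
  (.node (.node (.node (.leaf (nat_lit 0x120205d8396cc2e640018384469d9d69845008046141c06c3f70000808420701b5e43f004011019a6659b104020103e0680c03c1f002010f01a5a8296a832628008283c6218d6243d002040e9750ddaf0d83b00a090e8396cc2e0c400018385d57758c1f69c2c0bc03058385dd635d839008040d818574190dc02000340cda90c835002000c8165a01056c130a400034320595d05d730cc008241e08d85669a20c02d0000d0c1710b59d0b03100a090c01456c130ac010042e6418f6442f008040b01456c150b4008082c051590542d008000a82965c285ac1b5ec1a5a96f5ad610740080c2a0a5970a02b002000a012564135bc29002090a01256c130a40081c285b40c02c170080609969575680415b5655b04565041590540080c265a55d5a02700200091655a55d5a02500a09091675a55f05c0001824040135b41b00406))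
  (.leaf (nat_lit 0x7fc007fc007fc007fc007fc007ffb6ed0000bbaa0d0000d2cfea42b80234e751f0002ee605000034e50560002be45bb00025e443c000221a78b656008b8bcdf4138022edbc1800034da82600034d8c0e00034e783e00034d7f7900036e639a000362e35b146008d396e34000dac3d5e178022e287936aa0088b55e2c000db8ee1c000d8a6d38568022bb1b4d192008d0c9e25928022bd2b8400036)))
  (.leaf (nat_lit 0x26397a62309f5779f430e60309f231ec400003468b4912aaab2b1acc018311a2d0b7954bf00a06460b01705f2dc01819142b1e52b5150080044911ae510914b594cb491247915e92e40080d12446b94411300200440aa794ab91d1100209438a82aeaaad0010190c29858689e329eaeac506279dd0b014021500154f024130a45527d050001dac108288a19980201aaf299e1150280480801002505475154100c055400755c0f07dbc1de3841c018810828856164a700208422562da44aa80001504279dd16cab0000840a372fe62309f528400829022684c13c9d002053f292a46938ccdd9f4dc8ca2f8ce113840080cfa250978cc7c1e4db0080f3e89425e3127402818f8252203ae8e3b2880020a3d8921204b26401004f48b4f5a649a7446731665000183d09071dcc26c00820f22404812c95002073c22b86e2a2384860c4923e29239c924c0080cee2304612c97006063ba88a2e893bc02010ec2308b89486224eb0000d39a1d149c624400018e486e2a8a62b39402824e4902438048d00006)))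
  (.node (.leaf (nat_lit 0x2a9e57f1fb7f4ab00a092a85a0b02f17c00018a8169a6079760e46d0020b2a05a6984521400814a81699d16ca9002042985866c4320c01818a277df47cdf528c028249e775a66f07700606269cd6443118c018189a131871349b00804259cb25e31139851047d84400060961282008c4f0020825a2088e2125c02010907244860c49244028248e1204722e25218850020a239c763dc623c008108a1182007c4521e1f890010548a118205d83776a1c0040b221c521e1f2188900a09220440782112c00018861101e5d837769d98700304c86111bc82a0700806210445fc452140081080709855f584135d16b5d013187135cf00403200421047b834008187e101840880e01805540025154151c0301d570341d1047b0061c1f87b83c7a1fc008007c6fc7b83c7a1f4028247a10184135d1751d38300304c7a1019a15df4199d40060e1d1bb635ba0f01a5841b0f5b90f17b0fc0080c746ec51759f900002))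
  (.leaf (nat_lit 0xcb34400036adb24a9a008acdbc8cab8022e3f3212ce008d230c84b18022e8cb211720088b38cdc000da83c7c26802349ff1f6460088b32c74000dadac741e802259631b0fa008d236c6dc08022540b1b82a0088930c659f8023431719772008b92ec645b8022ba831743e008baa2c5ca880222a4b152ba008967bc49c78022bb7711606008d298c45bc8022ea6b1169e00888fac3a408022b3bb0d92a008ac91c24898022e3d309112008ace5c1b0b8022ea23068920088b03a5c000b8f3c088680225))))
def tcM1_N_0 : Tr := .node (.node (.node (.node (.leaf (nat_lit 70327399))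
  (.leaf (nat_lit 0x711482388a411c45208e22904711482)))
  (.node (.leaf (nat_lit 174082623649))
  (.leaf (nat_lit 198))))
  (.node (.node (.leaf (nat_lit 172134564))
  (.leaf (nat_lit 99)))
  (.leaf (nat_lit 144178967352417))))
  (.node (.node (.node (.leaf (nat_lit 137495649))
  (.leaf (nat_lit 66)))
  (.node (.leaf (nat_lit 5601817068609))
  (.leaf (nat_lit 231))))
  (.node (.node (.leaf (nat_lit 138584035393))
  (.leaf (nat_lit 4100)))
  (.leaf (nat_lit 0x29c8229c8229c8229c8229c82))))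
def tcM1_N_1 : Tr := .node (.node (.node (.node (.leaf (nat_lit 237209826))
  (.leaf (nat_lit 33)))
  (.node (.leaf (nat_lit 4470124643393))
  (.leaf (nat_lit 6150))))
  (.node (.node (.leaf (nat_lit 69861442625))
  (.leaf (nat_lit 132)))
  (.leaf (nat_lit 0x3948139481394813948139481))))
  (.node (.node (.node (.leaf (nat_lit 172036257))
  (.leaf (nat_lit 2050)))
  (.node (.leaf (nat_lit 2338747092033))
  (.leaf (nat_lit 0))))
  (.node (.node (.leaf (nat_lit 139721836673))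
  (.leaf (nat_lit 165)))
  (.leaf (nat_lit 0x53904129c82094e4104a72082539041))))
def tcM1_N_2 : Tr := .node (.node (.node (.node (.leaf (nat_lit 72583335))
  (.leaf (nat_lit 33)))
  (.node (.leaf (nat_lit 139722885250))
  (.leaf (nat_lit 198))))
  (.node (.node (.leaf (nat_lit 5474715746))
  (.leaf (nat_lit 3075)))
  (.leaf (nat_lit 0x10e520c872906439483))))
  (.node (.node (.node (.leaf (nat_lit 135398529))
  (.leaf (nat_lit 66)))
  (.node (.leaf (nat_lit 4471131245633))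
  (.leaf (nat_lit 7175))))
  (.node (.node (.leaf (nat_lit 74156414017))
  (.leaf (nat_lit 165)))
  (.leaf (nat_lit 0x390a2390a2390a2390a2390a2390a2))))
def tcM1_N_3 : Tr := .node (.node (.node (.node (.leaf (nat_lit 0x43104431046119c27))
  (.leaf (nat_lit 1025)))
  (.node (.leaf (nat_lit 3439266432065))
  (.leaf (nat_lit 231))))
  (.node (.node (.leaf (nat_lit 138580984897))
  (.leaf (nat_lit 132)))
  (.leaf (nat_lit 0x390a1390a1390a1390a1390a1))))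
  (.node (.node (.node (.leaf (nat_lit 170035362))
  (.leaf (nat_lit 99)))
  (.node (.leaf (nat_lit 179258015188065))
  (.leaf (nat_lit 0))))
  (.node (.node (.leaf (nat_lit 173041387649))
  (.leaf (nat_lit 5125)))
  (.leaf (nat_lit 0x721481390a409c85204e42902721481))))
def tcM1_N : Tr := .node (.node tcM1_N_0
  tcM1_N_1)
  (.node tcM1_N_2
  tcM1_N_3)
noncomputable def tcM1 : TC :=
  ⟨[.l 0, .l 1, .l 2, .l 3, .l 4, .l 5, .l 6, .l 7],
    (nat_lit 8), (nat_lit 10), (nat_lit 247132686368), (nat_lit 63), (nat_lit 159), (nat_lit 5), (nat_lit 32), (nat_lit 10), (nat_lit 56),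
    get (nat_lit 10) (nat_lit 0x1003010030080400c02010030080400c02010030080400c02010030081906419060140501403c0a0280902409024090200802008020080200801c0601806018060380601806), Tr.get tcM1_N, get (nat_lit 20) (nat_lit 0x3ff003ff003ff003ff003ff003ff003ff003ff003ff003ff003ff003ff003ff003ff003ff003ff003ff003ff003ff003ff003ff003ff003ff000200001f0001e0001d0001c0001b0001a000190001800017000160001500014000130001200011000100000f0000e0000d0000c0000b0000a00009000080000700006000050000400003000020000100000),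
    Tr.get3 tcM1_F (nat_lit 26) (nat_lit 5), Tr.get3 tcM1_T (nat_lit 8) (nat_lit 6), Tr.get tcM1_P⟩

theorem tcM1_head : tcM1.headOK relM1 iv = true := by decide +kernel

theorem tcM1_b0 : allFrom (nat_lit 0) (nat_lit 10) tcM1.blockOK = true := by decide +kernel

def tcM1_Q7 : Tr := .leaf (nat_lit 0x3b20afb8ecfa1ee42ae97a0e9ba4e894e00c02)
theorem tcM1_f7_0 : allFrom (nat_lit 0) (nat_lit 15) (tcM1.finOK (nat_lit 15) (Tr.get3 tcM1_Q7 (nat_lit 10) (nat_lit 6)) (nat_lit 7)) = true := by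
  decide +kernel

def tcM1_Q5 : Tr := .leaf (nat_lit 0x3bbee9940957805c130900d058120315154146)
theorem tcM1_f5_0 : allFrom (nat_lit 0) (nat_lit 15) (tcM1.finOK (nat_lit 15) (Tr.get3 tcM1_Q5 (nat_lit 10) (nat_lit 6)) (nat_lit 5)) = true := by
  decide +kernel

def tcM1_Q4 : Tr := .leaf (nat_lit 0x3b0ec5926218964d6c5996d5780901c0801944)
theorem tcM1_f4_0 : allFrom (nat_lit 0) (nat_lit 15) (tcM1.finOK (nat_lit 15) (Tr.get3 tcM1_Q4 (nat_lit 10) (nat_lit 6)) (nat_lit 4)) = true := by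
  decide +kernel

def tcM1_Q3 : Tr := .leaf (nat_lit 0x6a33196c65eae56eb2582b958aa5329142)
theorem tcM1_f3_0 : allFrom (nat_lit 0) (nat_lit 15) (tcM1.finOK (nat_lit 15) (Tr.get3 tcM1_Q3 (nat_lit 9) (nat_lit 6)) (nat_lit 3)) = true := by
  decide +kernel

def tcM1_Q2 : Tr := .leaf (nat_lit 0x33eb829ebc1b0c8285a01a5a55a5580501140)
theorem tcM1_f2_0 : allFrom (nat_lit 0) (nat_lit 15) (tcM1.finOK (nat_lit 15) (Tr.get3 tcM1_Q2 (nat_lit 10) (nat_lit 6)) (nat_lit 2)) = true := by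
  decide +kernel

def tcM1_Q1 : Tr := .leaf (nat_lit 0x1aaeb1ab62bad62d6a0456b02c10029525293e)
theorem tcM1_f1_0 : allFrom (nat_lit 0) (nat_lit 15) (tcM1.finOK (nat_lit 15) (Tr.get3 tcM1_Q1 (nat_lit 10) (nat_lit 6)) (nat_lit 1)) = true := by
  decide +kernel

theorem tcM1_blocks : ∀ t < tcM1.k, tcM1.blockOK t = true :=
  (of_allFrom_append of_lt_zero tcM1_b0)

/-- index 15 max 241 total 242 facts 1011 | needed cosets 159 facts 478 steps 1769 trivial 96 -/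
theorem tcM1_index {G : Type*} [Group G] {γ : ℕ → G} (hL : Lab γ iv) (hr : ∀ t ∈ relM1, t.ev γ = 1) {K : Subgroup G}
    (hK : ∀ t ∈ ([.l 1, .l 2, .l 3, .l 4, .l 5] : List W), t.ev γ ∈ K) :
    K.relIndex (genW γ [.l 1, .l 2, .l 3, .l 4, .l 5, .l 7]) ≠ 0 ∧ K.relIndex (genW γ [.l 1, .l 2, .l 3, .l 4, .l 5, .l 7]) ≤ 15 :=
  TC.relIndex_le (D := tcM1) (gens := [1, 2, 3, 4, 5, 7]) hL (List.forall_mem_cons.2 ⟨hL.zero_mem K, hK⟩) hr tcM1_head tcM1_blocks (by decide) (by decide)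
   (List.forall_mem_cons.2 ⟨⟨_, (of_allFrom_append of_lt_zero tcM1_f1_0)⟩,
    List.forall_mem_cons.2 ⟨⟨_, (of_allFrom_append of_lt_zero tcM1_f2_0)⟩,
    List.forall_mem_cons.2 ⟨⟨_, (of_allFrom_append of_lt_zero tcM1_f3_0)⟩,
    List.forall_mem_cons.2 ⟨⟨_, (of_allFrom_append of_lt_zero tcM1_f4_0)⟩,
    List.forall_mem_cons.2 ⟨⟨_, (of_allFrom_append of_lt_zero tcM1_f5_0)⟩,
    List.forall_mem_cons.2 ⟨⟨_, (of_allFrom_append of_lt_zero tcM1_f7_0)⟩,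
    fun _ h => absurd h List.not_mem_nil⟩⟩⟩⟩⟩⟩)

def m1_L0 : List (ℕ × List ℕ) := [((nat_lit 0), [(nat_lit 0xfedcba9876543210), (nat_lit 0xc97f53e8d6b4a201), (nat_lit 0xce6fb5978da13042), (nat_lit 0x86b4d72fae1c0953), (nat_lit 0xf98ca3e76db15024), (nat_lit 0x42a8106fbedc7935), (nat_lit 0xf52c9ba8d134e706), (nat_lit 0xf91c42eadb658307), (nat_lit 0xe96f53c147adb028), (nat_lit 0x46e8d12afb7503c9), (nat_lit 0x86547d2c390f1eba), (nat_lit 0x8134d27cea6f059b), (nat_lit 0x82f4706aebd5139c), (nat_lit 0xf91eb3c674a8520d), (nat_lit 0x81942d7fb50c6a3e), (nat_lit 0x62e81045ca7bd39f)]),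
  ((nat_lit 1), [(nat_lit 0xfedcba9876543210), (nat_lit 0x3b8f9ac1d7e25640), (nat_lit 0xcedf689a1b452370), (nat_lit 0xc579eabd6231f480), (nat_lit 0x5913caf48db6e720), (nat_lit 0x26ac98f7d1e34b50), (nat_lit 0xfb8371ca492e65d0), (nat_lit 0x957c2dba8e134f60), (nat_lit 0xf419e86db327c5a0), (nat_lit 0x4972f8c5ad6be130), (nat_lit 0x67afc13d84b529e0), (nat_lit 0x941f3d68ae725cb0), (nat_lit 0x1b64cd93a72e58f0), (nat_lit 0xc2435871abd6ef90), (nat_lit 0x76b5fd92813e4ac0)]),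
  ((nat_lit 2), [(nat_lit 0xfedcba9876543210), (nat_lit 0x65e37d4ac298fb10), (nat_lit 0x9385abfd26c4e710), (nat_lit 0x3da72854bfe9c610), (nat_lit 0x6c3e284b57fd9a10), (nat_lit 0x4fa9d76eb2385c10), (nat_lit 0xca8b64e923d57f10), (nat_lit 0x23f5ba879c6e4d10), (nat_lit 0xf7cd6492eb3a5810), (nat_lit 0x86d4ec257bfa9310), (nat_lit 0x49bf8263a7edc510), (nat_lit 0x5bda643f7e8c2910), (nat_lit 0xbf697dac43258e10), (nat_lit 0x3b7af956d2c8e410)]),
  ((nat_lit 3), [(nat_lit 0xfedcba9876543210), (nat_lit 0x7fc953d8ea4b6210), (nat_lit 0x5a7bce38d4f69210), (nat_lit 0xe79d46c8f3b5a210), (nat_lit 0xd5b3f978ae6c4210), (nat_lit 0x43e59f68cb7ad210), (nat_lit 0xb6f4d7a895e3c210), (nat_lit 0xad3764b859cfe210), (nat_lit 0xc4567de83fa9b210), (nat_lit 0x9b4aecf8673d5210), (nat_lit 0x69af3548bcde7210), (nat_lit 0x3c6eab584d97f210)])]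

def m1_D0 : List ℕ := [(nat_lit 0), (nat_lit 513), (nat_lit 1025), (nat_lit 1537), (nat_lit 91138), (nat_lit 99842), (nat_lit 108546), (nat_lit 117250), (nat_lit 125954), (nat_lit 148994), (nat_lit 174594), (nat_lit 186370), (nat_lit 215554), (nat_lit 228354), (nat_lit 281090), (nat_lit 339458), (nat_lit 0), (nat_lit 26060547), (nat_lit 2561), (nat_lit 26435843), (nat_lit 1967884036), (nat_lit 690690), (nat_lit 2535454468), (nat_lit 2799970564), (nat_lit 827906), (nat_lit 887298), (nat_lit 4170753796), (nat_lit 1047042), (nat_lit 5667552004), (nat_lit 6556051204), (nat_lit 1328642), (nat_lit 0), (nat_lit 592861577477), (nat_lit 95247107), (nat_lit 722987818245), (nat_lit 11940111108), (nat_lit 97218845112582), (nat_lit 111739968681734), (nat_lit 128028560479494), (nat_lit 142873545308934), (nat_lit 162824889069830), (nat_lit 19615447812), (nat_lit 21346039556), (nat_lit 231998485494534),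 (nat_lit 261761495687430), (nat_lit 0), (nat_lit 2991100330245), (nat_lit 2874674140933), (nat_lit 3393084846853), (nat_lit 481553065190150), (nat_lit 536338495691014), (nat_lit 584897390430470), (nat_lit 648326899776774), (nat_lit 718360549163782), (nat_lit 780051620869894), (nat_lit 860556766545670), (nat_lit 965310702861574)]

def m1_L1 : List (ℕ × List ℕ) := [((nat_lit 0), [(nat_lit 0xfedcba9876543210), (nat_lit 0x86b4d72fae1c0953), (nat_lit 0x1de76405cb8a23f9), (nat_lit 0xc90f35e412a8b67d), (nat_lit 0xef1953c608b2a4d7), (nat_lit 0x5b6aec314df79082), (nat_lit 0x4238016c597fdeab), (nat_lit 0x6852104e3fd97cba), (nat_lit 0x709128daf3456bce), (nat_lit 0xd1f0827b95634aec), (nat_lit 0x9c7eabf2d4365801), (nat_lit 0xa3259fb780c1ed46), (nat_lit 0xb583f9ad21e0c764), (nat_lit 0x24a67d89bc0e1f35), (nat_lit 0x7cd4613ea2b859f), (nat_lit 0x3a4bce50679df128)])]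

def m1_D1 : List ℕ := [(nat_lit 0), (nat_lit 513), (nat_lit 1025), (nat_lit 1537), (nat_lit 2049), (nat_lit 62466), (nat_lit 69122), (nat_lit 75778), (nat_lit 94722), (nat_lit 102402), (nat_lit 124930), (nat_lit 165378), (nat_lit 176130), (nat_lit 204802), (nat_lit 254978), (nat_lit 329730)]

def m1_L2 : List (ℕ × List ℕ) := [((nat_lit 0), [(nat_lit 0xfedcba9876543210), (nat_lit 0xc97f53e8d6b4a201), (nat_lit 0xce6fb5978da13042), (nat_lit 0x86b4d72fae1c0953), (nat_lit 0xf98ca3e76db15024), (nat_lit 0x42a8106fbedc7935), (nat_lit 0xf52c9ba8d134e706), (nat_lit 0xf91c42eadb658307), (nat_lit 0x46e8d12afb7503c9), (nat_lit 0x86547d2c390f1eba), (nat_lit 0x8134d27cea6f059b), (nat_lit 0x82f4706aebd5139c), (nat_lit 0xca0f9b576431e82d), (nat_lit 0x81942d7fb50c6a3e), (nat_lit 0xc94f10e56bda7328), (nat_lit 0x82c4d163957b0aef)]),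
  ((nat_lit 1), [(nat_lit 0xfedcba9876543210), (nat_lit 0x92de756f38ac14b0), (nat_lit 0xcadf3e582194b760), (nat_lit 0x8cd415f6b9a27e30), (nat_lit 0x64d23a891f5ebc70), (nat_lit 0xe5d912af4b6c7380), (nat_lit 0x45d87ca6e3f21b90), (nat_lit 0x14d7be856c9a3f20), (nat_lit 0x2ad6b459c78e31f0), (nat_lit 0x49d82fe1abc76350), (nat_lit 0xbcd372fa8e651940), (nat_lit 0x32db1c6a94f578e0), (nat_lit 0x7ed13495f28ab6c0), (nat_lit 0xc6df492b57e381a0)]),
  ((nat_lit 2), [(nat_lit 0xfedcba9876543210), (nat_lit 0x68d29f437acbe510), (nat_lit 0x9cde53f472b8a610), (nat_lit 0xa3d546be7f298c10), (nat_lit 0x24d6f98a73e5cb10), (nat_lit 0x42d8ce6b7593fa10), (nat_lit 0xb5d328a97c4e6f10), (nat_lit 0x3adb825c796f4e10), (nat_lit 0x5bda643f7e8c2910), (nat_lit 0xc9dfabe678325410), (nat_lit 0x86d4ec257bfa9310), (nat_lit 0xefd935c274a6b810)])]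

def m1_D2 : List ℕ := [(nat_lit 0), (nat_lit 513), (nat_lit 1025), (nat_lit 1537), (nat_lit 72706), (nat_lit 80386), (nat_lit 88066), (nat_lit 95746), (nat_lit 116226), (nat_lit 138754), (nat_lit 149506), (nat_lit 175618), (nat_lit 222210), (nat_lit 235010), (nat_lit 267266), (nat_lit 366082), (nat_lit 0), (nat_lit 17458435), (nat_lit 2049), (nat_lit 15509251), (nat_lit 1678090500), (nat_lit 1958950148), (nat_lit 2177403140), (nat_lit 774146), (nat_lit 3015635204), (nat_lit 890882), (nat_lit 3926038788), (nat_lit 4295698180), (nat_lit 1046530), (nat_lit 5484422404), (nat_lit 0), (nat_lit 70256387), (nat_lit 80017155), (nat_lit 71837955), (nat_lit 9787979524), (nat_lit 10813662980), (nat_lit 11614947076), (nat_lit 12803198724), (nat_lit 14055862020), (nat_lit 15025526020), (nat_lit 16463427332), (nat_lit 18399442692)]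

def m1 : PM :=
  ⟨(nat_lit 16), (nat_lit 4), [(nat_lit 0xc97f53e8d6b4a201), (nat_lit 0xce6fb5978da13042), (nat_lit 0x86b4d72fae1c0953), (nat_lit 0xcadf3e582194b760), (nat_lit 0xcedf689a1b452370), (nat_lit 0xfedcba9876543210), (nat_lit 0xfc4eab91675d3082)],
    [[.l 1, .l 2, .l 3, .l 4, .l 5, .l 7],
    [.l 3, .mul (.mul (.l 2) (.l 3)) (.l 2), .pow (.mul (.l 1) (.l 3)) 2, .pow (.mul (.l 1) (.mul (.mul (.l 2) (.l 3)) (.l 2))) 2],
    [.l 1, .l 2, .l 3, .l 4, .l 5]],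
    [m1_L0, m1_L1, m1_L2], [m1_D0, m1_D1, m1_D2]⟩

instance m1_ne : NeZero m1.n := ⟨by decide⟩

theorem m1_ok0 : m1.ok0 = true := by decide +kernel

theorem m1_k0 : allFrom (nat_lit 0) (nat_lit 1) m1.okK = true := by decide +kernel

theorem m1_k1 : allFrom (nat_lit 1) (nat_lit 1) m1.okK = true := by decide +kernel

theorem m1_k2 : allFrom (nat_lit 2) (nat_lit 1) m1.okK = true := by decide +kernel

theorem m1_ok : m1.OK := PM.OK.of_check m1_ok0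
  (of_allFrom_append (of_allFrom_append (of_allFrom_append of_lt_zero m1_k0) m1_k1) m1_k2)

theorem m1_card0 : Nat.card (genW m1.gam (m1.ws 0)) = 40320 := (m1_ok.card 0).trans (by decide +kernel)

theorem m1_card1 : Nat.card (genW m1.gam (m1.ws 1)) = 16 := (m1_ok.card 1).trans (by decide +kernel)

theorem m1_card2 : Nat.card (genW m1.gam (m1.ws 2)) = 2688 := (m1_ok.card 2).trans (by decide +kernel)

theorem m1_lab : Lab m1.gam iv := m1_ok.lab (by decide) (by decide +kernel) (by decide)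

theorem m1_relP : ∀ t ∈ relP1, t.ev m1.gam = 1 := m1_ok.rels (by decide +kernel)

theorem m1_relM : ∀ t ∈ relM1, t.ev m1.gam = 1 := m1_ok.rels (by decide +kernel)

theorem hh_relP1 : ∀ t ∈ relP1, t.ev hh.gam = 1 := hh_ok.rels (by decide +kernel)

theorem hh_relQ1 : ∀ t ∈ relQ1, t.ev hh.gam = 1 := hh_ok.rels (by decide +kernel)

/-- the letters of the parabolic subgroup -/
def labP1 : List W := [.l 0, .l 1, .l 2, .l 3, .l 4, .l 5, .l 0]

/-- the letters of `2⁴:A₇` -/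
def labM1 : List W := [.l 0, .l 1, .l 2, .l 3, .l 4, .l 5, .l 0, .l 7]

theorem m1_res : newLet m1.gam labM1 = m1.gam := m1_ok.newLet_eq m1_lab (by decide) (by decide) (by decide +kernel)

/-- relators of a parabolic subgroup -/
def relP2 : List W := relS ++ [.mul (.mul (.mul (.mul (.mul (.l 1) (.l 3)) (.l 6)) (.l 1)) (.l 6)) (.l 3), .pow (.mul (.l 2) (.l 5)) 3, .mul (.mul (.mul (.mul (.mul (.l 2) (.l 6)) (.l 5)) (.l 3)) (.l 5)) (.l 6), .pow (.mul (.l 3) (.l 6)) 3, .pow (.mul (.l 5) (.l 6)) 3, .mul (.mul (.mul (.mul (.mul (.mul (.l 2) (.l 3)) (.l 2)) (.l 3)) (.l 5)) (.l 3)) (.l 5), .mul (.mul (.mul (.mul (.mul (.mul (.l 2) (.l 3)) (.l 2)) (.l 3)) (.l 6)) (.l 2)) (.l 6), .pow (.mul (.mul (.mul (.l 1) (.l 2)) (.l 5)) (.l 2)) 2, .mul (.mul (.mul (.mul (.mul (.mul (.mul (.mul (.l 1) (.l 2)) (.l 1)) (.l 2)) (.l 5)) (.l 3)) (.l 1)) (.l 3)) (.l 5), .mul (.mul (.mul (.mul (.mul (.mul (.mul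 (.mul (.l 1) (.l 2)) (.l 1)) (.l 2)) (.l 5)) (.l 6)) (.l 1)) (.l 6)) (.l 5), .mul (.mul (.mul (.mul (.mul (.mul (.mul (.mul (.l 1) (.l 2)) (.l 3)) (.l 1)) (.l 3)) (.l 2)) (.l 5)) (.l 1)) (.l 5)]

def tcP2_F : Tr := .leaf (nat_lit 0x14454350d42ccb40d0340cc331c873340d30c832344d22c8b20c4311b8710c0301ac702c0b00bc2f328cf2bcaf0b82e32cce0b42d334cd1a46d1204c330cc0b02c0ac2b2acab0a82a1a86a0a429318c9320c80a02811c4709c27098261986611445314c509425110440902408c2318c6328ca3108420882208421184611806010040080201d06f14c4e1484d2c4ac1404a13c492b8a82b4a71b06712c462a8a52a4a41a06431cc3298a219462310c110c41308c0284a000000)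
def tcP2_T : Tr := .leaf (nat_lit 0x149ca307b9ac5a928398a418820)
def tcP2_P : Tr := .node (.leaf (nat_lit 0x1c64184d1965511d00e0f1c1013551700a07681a4f4d4f4d1b6900c0e1a0e390f1b002091a0e06091300607184f0e0609110040b180e3b0f1900208180e3d0f1900005160c3735370d170000c160c370d1700206581447434743155900c0d1445474515006071241115110413f1300e0f120802050d002091008310911002081008330911000050e393b390f000070e3b3d3b0f00605480c373537350d4900c0d0c042d050d006070a37042d050b0040b0a042f050b002080a042b050b0000508022f03090000708313331090060506022d2b2d03070000c06022f0331070020a06022d030700206040331020500007042f2b2f050060530022d2b2d2b033100c0d022f2d2f2d0300a0a))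
  (.leaf (nat_lit 0x1ff001ff001ff001ff001ff001ff001ff001ff001ff001ff001ff001ff001ff001ff281e12111d7c0040a28735972290020828717321860080728735b722900005261c6461651d270000c261c101366250020a266d5d787700207241a4f4d4f1b250000c24691a192300207241a4f1b25002062265103f1164612300e0f226365531d00607201447434715210000c20140a0d49170020a2014471521002061e12413f41131f0000c1e550c0b15002071e1241131f00206))
def tcP2_N_0 : Tr := .node (.node (.node (.node (.leaf (nat_lit 69861442625))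
  (.leaf (nat_lit 198)))
  (.leaf (nat_lit 33)))
  (.node (.leaf (nat_lit 204672195))
  (.leaf (nat_lit 3075))))
  (.node (.node (.node (.leaf (nat_lit 0x1886110c2218441))
  (.leaf (nat_lit 7175)))
  (.leaf (nat_lit 66)))
  (.node (.leaf (nat_lit 74156414017))
  (.leaf (nat_lit 165))))
def tcP2_N_1 : Tr := .node (.node (.node (.node (.leaf (nat_lit 105329559650))
  (.leaf (nat_lit 231)))
  (.leaf (nat_lit 1025)))
  (.node (.leaf (nat_lit 5474715746))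
  (.leaf (nat_lit 132))))
  (.node (.node (.node (.leaf (nat_lit 170035362))
  (.leaf (nat_lit 0)))
  (.leaf (nat_lit 99)))
  (.node (.leaf (nat_lit 5704996947009))
  (.leaf (nat_lit 5125))))
def tcP2_N_2 : Tr := .node (.node (.node (.node (.leaf (nat_lit 104254768225))
  (.leaf (nat_lit 6150)))
  (.leaf (nat_lit 33)))
  (.node (.leaf (nat_lit 206771397))
  (.leaf (nat_lit 132))))
  (.node (.node (.node (.leaf (nat_lit 106993761))
  (.leaf (nat_lit 0)))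
  (.leaf (nat_lit 2050)))
  (.node (.leaf (nat_lit 5601817068609))
  (.leaf (nat_lit 165))))
def tcP2_N_3 : Tr := .node (.node (.node (.node (.leaf (nat_lit 106757956404289))
  (.leaf (nat_lit 231)))
  (.leaf (nat_lit 66)))
  (.node (.leaf (nat_lit 6515951714))
  (.leaf (nat_lit 4100))))
  (.node (.node (.leaf (nat_lit 206673090))
  (.leaf (nat_lit 99)))
  (.node (.leaf (nat_lit 5537356876865))
  (.leaf (nat_lit 198))))
def tcP2_N : Tr := .node (.node tcP2_N_0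
  tcP2_N_1)
  (.node tcP2_N_2
  tcP2_N_3)
noncomputable def tcP2 : TC :=
  ⟨[.l 0, .l 1, .l 2, .l 3, .l 4, .l 5, .l 6, .l 7],
    (nat_lit 5), (nat_lit 8), (nat_lit 247132686368), (nat_lit 15), (nat_lit 21), (nat_lit 3), (nat_lit 32), (nat_lit 2), (nat_lit 39),
    get (nat_lit 10) (nat_lit 0x400c0400c02010030080400c02010030080400c02010030080400c02024090240801c0701806018060180c0280802008), Tr.get tcP2_N, get (nat_lit 20) (nat_lit 0x3ff003ff003ff003ff003ff003ff003ff003ff003ff003ff003ff003ff003ff003ff003ff003ff003ff003ff003ff003ff003ff003ff003ff0000f0000e0000d0000c0000b0000a00009000080000700006000050000400003000020000100000),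
    Tr.get3 tcP2_F (nat_lit 20) (nat_lit 5), Tr.get3 tcP2_T (nat_lit 5) (nat_lit 7), Tr.get tcP2_P⟩

theorem tcP2_head : tcP2.headOK relP2 iv = true := by decide +kernel

theorem tcP2_b0 : allFrom (nat_lit 0) (nat_lit 2) tcP2.blockOK = true := by decide +kernel

def tcP2_Q6 : Tr := .leaf (nat_lit 0x9086828387726c68626d7354520f5544090e050804)
theorem tcP2_f6_0 : allFrom (nat_lit 0) (nat_lit 21) (tcP2.finOK (nat_lit 21) (Tr.get3 tcP2_Q6 (nat_lit 8) (nat_lit 6)) (nat_lit 6)) = true := by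
  decide +kernel

def tcP2_Q5 : Tr := .leaf (nat_lit 0x8e8f802376701d1b225c15131c1a0d1412380c0302)
theorem tcP2_f5_0 : allFrom (nat_lit 0) (nat_lit 21) (tcP2.finOK (nat_lit 21) (Tr.get3 tcP2_Q5 (nat_lit 8) (nat_lit 6)) (nat_lit 5)) = true := by
  decide +kernel

def tcP2_Q3 : Tr := .leaf (nat_lit 0x2988897c78287d66197958671118480b103a0a302e)
theorem tcP2_f3_0 : allFrom (nat_lit 0) (nat_lit 21) (tcP2.finOK (nat_lit 21) (Tr.get3 tcP2_Q3 (nat_lit 8) (nat_lit 6)) (nat_lit 3)) = true := by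
  decide +kernel

def tcP2_Q2 : Tr := .leaf (nat_lit 0x92272593211f26246417201e654e1646400736062c)
theorem tcP2_f2_0 : allFrom (nat_lit 0) (nat_lit 21) (tcP2.finOK (nat_lit 21) (Tr.get3 tcP2_Q2 (nat_lit 8) (nat_lit 6)) (nat_lit 2)) = true := by
  decide +kernel

def tcP2_Q1 : Tr := .leaf (nat_lit 0x8c8a847e7a746e6a605e5a56504c4a423e3c34322a)
theorem tcP2_f1_0 : allFrom (nat_lit 0) (nat_lit 21) (tcP2.finOK (nat_lit 21) (Tr.get3 tcP2_Q1 (nat_lit 8) (nat_lit 6)) (nat_lit 1)) = true := by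
  decide +kernel

theorem tcP2_blocks : ∀ t < tcP2.k, tcP2.blockOK t = true :=
  (of_allFrom_append of_lt_zero tcP2_b0)

/-- index 21 max 21 total 21 facts 74 | needed cosets 21 facts 74 steps 290 trivial 0 -/
theorem tcP2_index {G : Type*} [Group G] {γ : ℕ → G} (hL : Lab γ iv) (hr : ∀ t ∈ relP2, t.ev γ = 1) {K : Subgroup G}
    (hK : ∀ t ∈ ([.l 1, .l 2, .l 3] : List W), t.ev γ ∈ K) :
    K.relIndex (genW γ [.l 1, .l 2, .l 3, .l 5, .l 6]) ≠ 0 ∧ K.relIndex (genW γ [.l 1, .l 2, .l 3, .l 5, .l 6]) ≤ 21 :=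
  TC.relIndex_le (D := tcP2) (gens := [1, 2, 3, 5, 6]) hL (List.forall_mem_cons.2 ⟨hL.zero_mem K, hK⟩) hr tcP2_head tcP2_blocks (by decide) (by decide)
   (List.forall_mem_cons.2 ⟨⟨_, (of_allFrom_append of_lt_zero tcP2_f1_0)⟩,
    List.forall_mem_cons.2 ⟨⟨_, (of_allFrom_append of_lt_zero tcP2_f2_0)⟩,
    List.forall_mem_cons.2 ⟨⟨_, (of_allFrom_append of_lt_zero tcP2_f3_0)⟩,
    List.forall_mem_cons.2 ⟨⟨_, (of_allFrom_append of_lt_zero tcP2_f5_0)⟩,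
    List.forall_mem_cons.2 ⟨⟨_, (of_allFrom_append of_lt_zero tcP2_f6_0)⟩,
    fun _ h => absurd h List.not_mem_nil⟩⟩⟩⟩⟩)

/-- more relators of the parabolic subgroup -/
def relQ2 : List W := [.mul (.mul (.mul (.mul (.mul (.l 1) (.l 3)) (.l 6)) (.l 1)) (.l 6)) (.l 3), .pow (.mul (.l 2) (.l 5)) 3, .mul (.mul (.mul (.mul (.mul (.l 2) (.l 6)) (.l 5)) (.l 3)) (.l 5)) (.l 6), .pow (.mul (.l 3) (.l 6)) 3, .pow (.mul (.l 5) (.l 6)) 3, .mul (.mul (.mul (.mul (.mul (.mul (.l 2) (.l 3)) (.l 2)) (.l 3)) (.l 5)) (.l 3)) (.l 5), .mul (.mul (.mul (.mul (.mul (.mul (.l 2) (.l 3)) (.l 2)) (.l 3)) (.l 6)) (.l 2)) (.l 6), .pow (.mul (.mul (.mul (.l 1) (.l 2)) (.l 5)) (.l 2)) 2, .mul (.mul (.mul (.mul (.mul (.mul (.mul (.mul (.l 1) (.l 2)) (.l 1)) (.l 2)) (.l 5)) (.l 3)) (.l 1)) (.l 3)) (.l 5), .mul (.mul (.mul (.mul (.mul (.mul (.mul (.mul (.l 1) (.l 2)) (.l 3)) (.l 1)) (.l 3)) (.l 2)) (.l 5)) (.l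 1)) (.l 5), .mul (.mul (.mul (.mul (.mul (.mul (.mul (.mul (.l 1) (.l 2)) (.l 3)) (.l 1)) (.l 3)) (.l 5)) (.l 1)) (.l 5)) (.l 2), .mul (.mul (.mul (.mul (.mul (.mul (.mul (.mul (.mul (.l 1) (.l 2)) (.l 1)) (.l 6)) (.l 1)) (.l 5)) (.l 3)) (.l 5)) (.l 1)) (.l 6)]

/-- fixed point free elements and their orders -/
def fpf2 : List (W × ℕ) := [(.mul (.mul (.l 2) (.l 6)) (.l 7), 5), (.mul (.mul (.mul (.l 2) (.l 6)) (.l 5)) (.l 7), 5), (.mul (.mul (.mul (.l 3) (.l 5)) (.l 6)) (.l 7), 5), (.mul (.mul (.mul (.mul (.l 1) (.l 2)) (.l 6)) (.l 7)) (.l 5), 5)]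

/-- relators of `2⁴:A₇` -/
def relM2 : List W := relB ++ relQ2 ++ fpf2.map fun p => .pow p.1 p.2

def tcM2_F : Tr := .leaf (nat_lit 0x30c30728c28705100730e30d38838d18718d30b30a35130c2d128c10b10c28828e18b18e38638b01100c03301100d06106101036130e01000d05000a28a28a00c03400a04f35030b00c03303303900b05700b01b00e01300e04901304913310b00b02d00b01810910a00a02602601400f00b38938902400e00e05c00f01b1a619101e00800805b02404901800f00c03904f02600a04200a02101801b2cf28a00a03201e05b01b05701802d00a01701400a01901100901502201001003c00e04401201101003f01402102104201403201403a03203a00e03e02203c01701401403a02700702502700702501703a00f05e01b05600e05302905201104003802f01e03504d0203be3d305305d3ba3d20520593c03cd04d05f35c36134b36034235e3dc3c42be2db3bf3db1591593d83d82d82da3503571be1d733a3561d31d635534c0d50d52c92d53d43c71491543393540d40d433c3533343511461500d00d01b41cf13f14e13514d0cc0cc3bc3cc3b33ca0ca0ca32e34a1c71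ca33f3490c90c91ae1c81451481bd1c31ac1c13273401ba1c012513e12813d1a71bc2b12bb12b1370b70b71aa1b612d1330b30b31211310b10b11a01b029b2af0ae0ae3983ac12212c2962a919e1a90a60a60a30a319c1a311a1233a039111e12009f09f28e29e09c09c18e19b09a09a19519a08e08e08f08f09109109709709509519419911211809809819719111511730b31429429409309318b19309209210f11109009038839038e38e08d08d28d28d08c08c18a18c08b08b08a08a08908930630918618908708710510830830808808808608630530508508510410408408410310308308308208228228138238218218208108118118130030028028018018010010008008016114b2e02c33df3c015e1403dd3be2dc2bd1db1bb15a13b3d93ba15813a1571392d62b83d53b71d41b72d32b51d21b52d12b31d01b32cf2b21ce1b134d32f14c12e3cb3ad2ca2ad1c91ad2c82ac2c72ab1c61ab3c53a71441273c33a62c22a61411262c02a51bf1a533e3233bd3a22bc2a23bb3a12ba2a11b91a133832033731f2b629f33531e2b429d33331c33231b33131a2b029a3af3992ae29832d31732c31632b3152aa2953a93943a83922a72921a61923253113243102a329032230e32130f2a028f19f18f39e38d31d30c29c28c11b10c39a38b11910b31830a29728a11610a39538911410929328831230729128719018710e10738f38610d10638c38528b28538a384289284188184387383286283185183304302303301102101381380000000)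
def tcM2_T : Tr := .leaf (nat_lit 0x30e0bf7aedcb76acd8af5aad4a74a8d09f3a6cc972a4c88f1a2c4870a0c07ef9ebc76e9cb86ed9ab466c98b05eb96ac56a94a84e992a446890a03e78e9c3668c982e58a9426488901c3c68c16284880e182840608080)
def tcM2_P : Tr := .node (.node (.node (.leaf (nat_lit 0x98eb3b4e505c01818240850708025006040880e3740d07401005053b40a370da3700b3b0e8040de04504002030800e3740b3b0010001e038dd03c1f002020680c374db3740d06c0002c1a030dd0341b00205060ec040e137ce1044ed38c0a36c0b0640080c183b0103841500200058ec040df044ed38c1700e0d050e1044ed38cec040e137c113a4100540080c12384113a410384df04c0383412020d601c0d002080480801007034018180e3700b3b0e93b40a374db02ce30280f00203040e10200401c0b0040a0400834c090440081c10020d90241100004030dd02ce3028dd36c0d00e0d0280633c0702c0081c0a018d101c0b00004020d633cd7024000180834cd934c0900604018d734cd601c000180633cd133c0700604010d7010d0014d60140002c02318ca00c05002010100231c030140080804008c900c0500800008c7324c7314c7324c7314c9314c900c0080c0231cc931c0300200))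
  (.leaf (nat_lit 0x7a60b000297adfa00029196050c6008920427c00085e77e8000a5ad7853080221685e14b20086c5a7f43180224771fa000290bddc44600885177711c8021b451dc0a200861f277c000a55f760218021b221d807e008604b75425802241f9d50860086c7579511802216c1d110e00891e2794000a5d3770000a59e73c6580224701cd40e0089d8c7344580224769d3000296f1cb14a0089dd4758000a5667244b80224205c908a0088564725178021b2f1c942600860ac7194b80221)))
  (.node (.leaf (nat_lit 0x2986a4c4451e400820a2198380ec690020828155255752388d00409280664bc67284000109e190360ec6900606271511d5642007f004092694b4b5301ac00018981711b42d1a174990000b2616e5b48a5780000094169150a81202004008cb334c700cd7024e10542f16d5400611250935c492551535549500c0e2505a0b83117400820941691515c8f006062485a4584b1fc0081c921692116c9300004240580b031174018189051d1b13c8b00401218835a5451ec00800821311a0c02d1640182880128220944f002082004a424431d4018187c1182008c4b000061e94451d1b14400008781101e0944f006061d842421230880e01805364d6008cd31cc532c0301cdd36c0d074435414f008131b86d55c5415c000186e0f9250fc6f006041b03e421174545500a09198383ec2f16c00018664e93d4ec6700604188615344010c00018624a51f4a06300604))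
  (.leaf (nat_lit 0x7fc007fc007fc007fc007fc007fc007fc007fc007fc007fc007fc007fc007fc007fc007fe6b980000926b97800084239525f802219424c0002492d050002792c200001b92640000249118a000248f8a3000218fa30000188d826000218d90d0001b8941c000278fa5200029426248c6008624e928000a4498824d80224))))
  (.node (.node (.leaf (nat_lit 0x604a51445909104028245e0c81606437002011711b1353f1311a4645d00e0d1602c0500801002334c700c073740f0951a00410161425053111400018520a0120542d00201148283c41b0f4008004c090ef0944d00004118203bc2111d394ad380000c1182007d2c0d83900a09119053b4170d401005090701b0f534002021001c06cff0f4010043e42123088ef08d090fc018343c0680c03c1f002010e0374b5274b0363f43900e0d0d8180280f07c02000340cd1d0a0f50a51c0c8f94310f43435002030d033474280ac008001e08d220882141c2007c000390848822085070802342401031174551e4502e3dc2f458018382e3e8fc3ec2f4551e450000302a0a51c0c8f90cd1d0a0f53c4e73c02b002030c8160280d3c029002090c02f4582209400018303e8fd3ec31006044241c3c02b450020002e050e104c2b004010a0f30300b05c0081828048e104c2900205098ed028db02cec3a42700e0d))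
  (.leaf (nat_lit 0x879b4000240f6184120089c318b6418022490a0600021612433ea0086e0e8a4000a63a68c000923c844000a4af8ee3180218806390002987624000298ca3500029856200002924a2f4320086e2e55000061ff8b4000a612890000a5fb0a000062267e8000a51c7e21b8021b0cdf842600861f60a80009c457d049802246b9f140e0089e09848000a5ef1340006e1680c000a5ab7b505802275cded126008904382c31802241ca0b3ea0086c858360780221)))
  (.leaf (nat_lit 0xa67153180221291c55020086db8709368022726dc21c6008918070935802181c4ad675c11f0460800e018d7348d4024133c41d10c75591b8806126f8ba000272e963205b8604a7802016e8b2000276a0b2591b8604a5808006d8be000272f967225af6d0c22585a4542a3cc1b0f46b60200040c26c8c05acb9002063016b1e8444c140149130580a03c2513d5e5f19b65c9225c01048bc59c4e13485002062204e145602e400004b6574624e07d008062d8765409d60c01000b22c5a62c0b3000022c0741dcb569400004b4575511d4b1002052b9902a15b2358800c0a2b99064d731f9620020a2b070100431d400820ac1c1351aca7006065f898521765e09424d966600183caa56c8d621876248c569592a58f2a0ab002032a95b23d9564c00805745ed5524d92004002a15b23d7425093004092a06e0f8431cc0081ca81b9331bca900004)))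
def tcM2_N_0 : Tr := .node (.node (.node (.node (.leaf (nat_lit 70327399))
  (.leaf (nat_lit 165)))
  (.leaf (nat_lit 0x1cc239847308e611cc2)))
  (.node (.node (.leaf (nat_lit 206771397))
  (.leaf (nat_lit 7175)))
  (.leaf (nat_lit 66))))
  (.node (.node (.node (.leaf (nat_lit 106993761))
  (.leaf (nat_lit 198)))
  (.leaf (nat_lit 33)))
  (.node (.leaf (nat_lit 5601817068609))
  (.leaf (nat_lit 3075))))
def tcM2_N_1 : Tr := .node (.node (.node (.node (.leaf (nat_lit 237209826))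
  (.leaf (nat_lit 5125)))
  (.leaf (nat_lit 0x398a3398a3398a3398a3398a3)))
  (.node (.node (.leaf (nat_lit 6515951714))
  (.leaf (nat_lit 0)))
  (.leaf (nat_lit 99))))
  (.node (.node (.node (.leaf (nat_lit 206673090))
  (.leaf (nat_lit 231)))
  (.leaf (nat_lit 1025)))
  (.node (.leaf (nat_lit 2372066643009))
  (.leaf (nat_lit 132))))
def tcM2_N_2 : Tr := .node (.node (.node (.node (.leaf (nat_lit 72583335))
  (.leaf (nat_lit 165)))
  (.leaf (nat_lit 0x394c2394c2394c2394c2394c2)))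
  (.node (.node (.leaf (nat_lit 5474715746))
  (.leaf (nat_lit 0)))
  (.leaf (nat_lit 2050))))
  (.node (.node (.node (.leaf (nat_lit 170035362))
  (.leaf (nat_lit 6150)))
  (.leaf (nat_lit 33)))
  (.node (.leaf (nat_lit 5537356876865))
  (.leaf (nat_lit 132))))
def tcM2_N_3 : Tr := .node (.node (.node (.node (.leaf (nat_lit 0x43104431046119c27))
  (.leaf (nat_lit 198)))
  (.leaf (nat_lit 0x53984129cc2094e6104a73082539841)))
  (.node (.leaf (nat_lit 74156414017))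
  (.leaf (nat_lit 99))))
  (.node (.node (.node (.leaf (nat_lit 204672195))
  (.leaf (nat_lit 231)))
  (.leaf (nat_lit 66)))
  (.node (.leaf (nat_lit 212380933096513))
  (.leaf (nat_lit 4100))))
def tcM2_N : Tr := .node (.node tcM2_N_0
  tcM2_N_1)
  (.node tcM2_N_2
  tcM2_N_3)
noncomputable def tcM2 : TC :=
  ⟨[.l 0, .l 1, .l 2, .l 3, .l 4, .l 5, .l 6, .l 7],
    (nat_lit 7), (nat_lit 10), (nat_lit 247132686368), (nat_lit 111), (nat_lit 98), (nat_lit 5), (nat_lit 32), (nat_lit 7), (nat_lit 43),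
    get (nat_lit 10) (nat_lit 0x400c0400c02010030080400c02010030080400c02010030080400c02064140500f02809024090200701c0601806018060380601806), Tr.get tcM2_N, get (nat_lit 20) (nat_lit 0x3ff003ff003ff003ff003ff003ff003ff003ff003ff003ff003ff003ff003ff003ff003ff003ff003ff003ff003ff003ff003ff003ff003ff000130001200011000100000f0000e0000d0000c0000b0000a00009000080000700006000050000400003000020000100000),
    Tr.get3 tcM2_F (nat_lit 24) (nat_lit 5), Tr.get3 tcM2_T (nat_lit 7) (nat_lit 7), Tr.get tcM2_P⟩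

theorem tcM2_head : tcM2.headOK relM2 iv = true := by decide +kernel

theorem tcM2_b0 : allFrom (nat_lit 0) (nat_lit 7) tcM2.blockOK = true := by decide +kernel

def tcM2_Q7 : Tr := .leaf (nat_lit 0x102998199581588a6703e5706014038d400c02)
theorem tcM2_f7_0 : allFrom (nat_lit 0) (nat_lit 15) (tcM2.finOK (nat_lit 15) (Tr.get3 tcM2_Q7 (nat_lit 10) (nat_lit 6)) (nat_lit 7)) = true := by
  decide +kernel

def tcM2_Q6 : Tr := .leaf (nat_lit 0x2699a26f98e623c8ea9b8f33900901c08018cc)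
theorem tcM2_f6_0 : allFrom (nat_lit 0) (nat_lit 15) (tcM2.finOK (nat_lit 15) (Tr.get3 tcM2_Q6 (nat_lit 10) (nat_lit 6)) (nat_lit 6)) = true := by
  decide +kernel

def tcM2_Q5 : Tr := .leaf (nat_lit 0x25a3fa6d05e4604e5b9b00d05812030d7358ca)
theorem tcM2_f5_0 : allFrom (nat_lit 0) (nat_lit 15) (tcM2.finOK (nat_lit 15) (Tr.get3 tcM2_Q5 (nat_lit 10) (nat_lit 6)) (nat_lit 5)) = true := by
  decide +kernel

def tcM2_Q3 : Tr := .leaf (nat_lit 0x258990fa964fb3c011994f102c10028d2338c8)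
theorem tcM2_f3_0 : allFrom (nat_lit 0) (nat_lit 15) (tcM2.finOK (nat_lit 15) (Tr.get3 tcM2_Q3 (nat_lit 10) (nat_lit 6)) (nat_lit 3)) = true := by
  decide +kernel

def tcM2_Q2 : Tr := .leaf (nat_lit 0x1f06e5c9762a8acec0781a3b4e037005010c6)
theorem tcM2_f2_0 : allFrom (nat_lit 0) (nat_lit 15) (tcM2.finOK (nat_lit 15) (Tr.get3 tcM2_Q2 (nat_lit 10) (nat_lit 6)) (nat_lit 2)) = true := by
  decide +kernel

def tcM2_Q1 : Tr := .leaf (nat_lit 0x49a00fc7c3d9e8e877399c4de6d361a0c4)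
theorem tcM2_f1_0 : allFrom (nat_lit 0) (nat_lit 15) (tcM2.finOK (nat_lit 15) (Tr.get3 tcM2_Q1 (nat_lit 9) (nat_lit 6)) (nat_lit 1)) = true := by
  decide +kernel

theorem tcM2_blocks : ∀ t < tcM2.k, tcM2.blockOK t = true :=
  (of_allFrom_append of_lt_zero tcM2_b0)

/-- index 15 max 179 total 179 facts 773 | needed cosets 98 facts 312 steps 1029 trivial 89 -/
theorem tcM2_index {G : Type*} [Group G] {γ : ℕ → G} (hL : Lab γ iv) (hr : ∀ t ∈ relM2, t.ev γ = 1) {K : Subgroup G}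
    (hK : ∀ t ∈ ([.l 1, .l 2, .l 3, .l 5, .l 6] : List W), t.ev γ ∈ K) :
    K.relIndex (genW γ [.l 1, .l 2, .l 3, .l 5, .l 6, .l 7]) ≠ 0 ∧ K.relIndex (genW γ [.l 1, .l 2, .l 3, .l 5, .l 6, .l 7]) ≤ 15 :=
  TC.relIndex_le (D := tcM2) (gens := [1, 2, 3, 5, 6, 7]) hL (List.forall_mem_cons.2 ⟨hL.zero_mem K, hK⟩) hr tcM2_head tcM2_blocks (by decide) (by decide)
   (List.forall_mem_cons.2 ⟨⟨_, (of_allFrom_append of_lt_zero tcM2_f1_0)⟩,
    List.forall_mem_cons.2 ⟨⟨_, (of_allFrom_append of_lt_zero tcM2_f2_0)⟩,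
    List.forall_mem_cons.2 ⟨⟨_, (of_allFrom_append of_lt_zero tcM2_f3_0)⟩,
    List.forall_mem_cons.2 ⟨⟨_, (of_allFrom_append of_lt_zero tcM2_f5_0)⟩,
    List.forall_mem_cons.2 ⟨⟨_, (of_allFrom_append of_lt_zero tcM2_f6_0)⟩,
    List.forall_mem_cons.2 ⟨⟨_, (of_allFrom_append of_lt_zero tcM2_f7_0)⟩,
    fun _ h => absurd h List.not_mem_nil⟩⟩⟩⟩⟩⟩)

def m2_L0 : List (ℕ × List ℕ) := [((nat_lit 0), [(nat_lit 0xfedcba9876543210), (nat_lit 0xef9547d3a2cb8601), (nat_lit 0x98cdb4fe763a5012), (nat_lit 0x6da5c2f1974b8e03), (nat_lit 0xc83d175962ebfa04), (nat_lit 0x9ae18263f7cb4d05), (nat_lit 0xd3594befa287c106), (nat_lit 0xa84fbcd62e195037), (nat_lit 0xe26db1f95ca37048), (nat_lit 0xa56de284371bfc09), (nat_lit 0xcd3768f4e51b290a), (nat_lit 0x53890acd26f4e71b), (nat_lit 0x481f325ae76bd90c), (nat_lit 0x36c4f2a987eb150d), (nat_lit 0xf15acb6d9782430e), (nat_lit 0xc2a5b483de69701f)]),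
  ((nat_lit 1), [(nat_lit 0xfedcba9876543210), (nat_lit 0xd6f4b9a82e5c1730), (nat_lit 0xbd2a745e96381cf0), (nat_lit 0x6e39d24cf8a71b50), (nat_lit 0x7b95ca364dfe1820), (nat_lit 0xbf792c56ae1834d0), (nat_lit 0xe8526f973c4b1da0), (nat_lit 0xc74385fdab261e90), (nat_lit 0x2ba5491ecfd63870), (nat_lit 0x72c4983d561efab0), (nat_lit 0xd3b2f7ae481c5960), (nat_lit 0x8cafe32b579d1640), (nat_lit 0x9753a41682bdfec0), (nat_lit 0xf1b7d296c8345ae0), (nat_lit 0x4c3f5a1de97b2680)]),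
  ((nat_lit 2), [(nat_lit 0xfedcba9876543210), (nat_lit 0x26b8754ecd3af910), (nat_lit 0x3867d42cbea95f10), (nat_lit 0x9d7ec3a68bf52410), (nat_lit 0x2679bcaf53d4e810), (nat_lit 0xd96b3a257f48ce10), (nat_lit 0x5ceb69f7d842a310), (nat_lit 0x4bc68f5de7239a10), (nat_lit 0xfeb2d743a5698c10), (nat_lit 0xb4d7f593c2ae8610), (nat_lit 0xc5f768eb39a24d10), (nat_lit 0xa78de23b6c9f4510), (nat_lit 0x38df6b954ae2c710), (nat_lit 0x832cde67f459ab10)]),
  ((nat_lit 3), [(nat_lit 0xfedcba9876543210), (nat_lit 0x9d48fcba563e7210), (nat_lit 0xef357489b6cad210), (nat_lit 0xb4ea98fc367d5210), (nat_lit 0x83a9e574c6dfb210), (nat_lit 0xd9735eabf68c4210), (nat_lit 0x4b573dcf96a8e210), (nat_lit 0x7af489e5d6b3c210), (nat_lit 0xa7cbd35e8649f210), (nat_lit 0xc58f473da6eb9210), (nat_lit 0x38bdcf47e695a210), (nat_lit 0x5c9eabd346f78210)])]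

def m2_D0 : List ℕ := [(nat_lit 0), (nat_lit 513), (nat_lit 3073), (nat_lit 82946), (nat_lit 91650), (nat_lit 100354), (nat_lit 120322), (nat_lit 130050), (nat_lit 140802), (nat_lit 165378), (nat_lit 176642), (nat_lit 203266), (nat_lit 215042), (nat_lit 247298), (nat_lit 280578), (nat_lit 339458), (nat_lit 0), (nat_lit 1025), (nat_lit 1556619012), (nat_lit 1757019396), (nat_lit 2039576324), (nat_lit 717826), (nat_lit 2633672452), (nat_lit 3015639812), (nat_lit 858114), (nat_lit 3791825668), (nat_lit 4168572676), (nat_lit 4718603524), (nat_lit 5484427012), (nat_lit 1217538), (nat_lit 7306673924), (nat_lit 0), (nat_lit 50050819), (nat_lit 69046531), (nat_lit 11065020164), (nat_lit 11929142532), (nat_lit 13124984068), (nat_lit 14040066308), (nat_lit 15369764612), (nat_lit 16836179204), (nat_lit 18358773508), (nat_lit 20054127876), (nat_lit 21306720004), (nat_lit 23659810052), (nat_lit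 26165749508), (nat_lit 0), (nat_lit 2924614685957), (nat_lit 155395331), (nat_lit 3091173995781), (nat_lit 38291240196), (nat_lit 536249725140230), (nat_lit 584524153106182), (nat_lit 46453271812), (nat_lit 718251704331014), (nat_lit 779595108159750), (nat_lit 55847740676), (nat_lit 965178557446406)]

def m2_L1 : List (ℕ × List ℕ) := [((nat_lit 0), [(nat_lit 0xfedcba9876543210), (nat_lit 0xef9547d3a2cb8601), (nat_lit 0xa76bcf21ed450983), (nat_lit 0xd9f306e52a81c74b), (nat_lit 0x835921cf04d6eba7), (nat_lit 0x7a245e60f9bc1d38), (nat_lit 0x9de812fc67305ab4), (nat_lit 0x38cd605e1b92f47a), (nat_lit 0x62a03d749f18be5c), (nat_lit 0x104298ba356d7cfe), (nat_lit 0x5c8e743db1fa9062), (nat_lit 0x267189abde034fc5), (nat_lit 0x1b6d3478c29a5ef), (nat_lit 0xc53fab8940e7d126), (nat_lit 0x4b17e506c8af23d9), (nat_lit 0xb40afc12537e689d)])]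

def m2_D1 : List ℕ := [(nat_lit 0), (nat_lit 513), (nat_lit 1025), (nat_lit 1537), (nat_lit 2049), (nat_lit 62466), (nat_lit 69122), (nat_lit 75778), (nat_lit 94722), (nat_lit 102402), (nat_lit 124930), (nat_lit 165378), (nat_lit 176130), (nat_lit 204802), (nat_lit 254978), (nat_lit 329730)]

def m2_L2 : List (ℕ × List ℕ) := [((nat_lit 0), [(nat_lit 0xfedcba9876543210), (nat_lit 0xef9547d3a2cb8601), (nat_lit 0x6da5c2f1974b8e03), (nat_lit 0xc83d175962ebfa04), (nat_lit 0x9ae18263f7cb4d05), (nat_lit 0x297c56e0dab43f18), (nat_lit 0xa56de284371bfc09), (nat_lit 0xcd3768f4e51b290a), (nat_lit 0x53890acd26f4e71b), (nat_lit 0x481f325ae76bd90c), (nat_lit 0x36c4f2a987eb150d), (nat_lit 0xe39428caf56b1d07), (nat_lit 0x237edac056b1984f), (nat_lit 0x8e567c90d3b1af42), (nat_lit 0xf1d69748325bac0e), (nat_lit 0xe597af81cd4b2306)]),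
  ((nat_lit 1), [(nat_lit 0xfedcba9876543210), (nat_lit 0xcd32b9f15e4678a0), (nat_lit 0xd6f4b9a82e5c1730), (nat_lit 0x96efb1a23475dc80), (nat_lit 0x2378bfca4d6e5190), (nat_lit 0x3ec6bf918d42a570), (nat_lit 0xe495ba12c67f83d0), (nat_lit 0xa469b81cd537ef20), (nat_lit 0x8751bc2963ed4af0), (nat_lit 0x7d2ebcfa13689450), (nat_lit 0x65a7b18cf4392de0), (nat_lit 0x154ab28fe7d369c0), (nat_lit 0x538db2c9a7e1f640), (nat_lit 0xe592b384dc1a7f60)]),
  ((nat_lit 2), [(nat_lit 0xfedcba9876543210), (nat_lit 0x38c2be5af9647d10), (nat_lit 0x9de3b7f5a284c610), (nat_lit 0x7a2db86e3594fc10), (nat_lit 0xc536bd879f24ae10), (nat_lit 0x5c87bf36eda42910), (nat_lit 0x62afb3798ce4d510), (nat_lit 0xa76eb52dc8f49310), (nat_lit 0x2679bcaf53d4e810), (nat_lit 0xd9f5b2e367c48a10), (nat_lit 0x835ab9c2de746f10), (nat_lit 0xef98b6dc2a345710)])]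

def m2_D2 : List ℕ := [(nat_lit 0), (nat_lit 513), (nat_lit 58370), (nat_lit 66050), (nat_lit 73730), (nat_lit 90626), (nat_lit 99842), (nat_lit 109058), (nat_lit 129538), (nat_lit 139266), (nat_lit 165378), (nat_lit 176642), (nat_lit 204290), (nat_lit 216578), (nat_lit 247810), (nat_lit 281090), (nat_lit 0), (nat_lit 19602179), (nat_lit 1025), (nat_lit 16764675), (nat_lit 1680833284), (nat_lit 1961908996), (nat_lit 2178981124), (nat_lit 2519967492), (nat_lit 2908699396), (nat_lit 3330206468), (nat_lit 3785516292), (nat_lit 4297895684), (nat_lit 5033425668), (nat_lit 1147906), (nat_lit 0), (nat_lit 72984323), (nat_lit 74023683), (nat_lit 71758595), (nat_lit 9781342980), (nat_lit 10817021700), (nat_lit 11614861572), (nat_lit 12795536132), (nat_lit 14059736836), (nat_lit 15025434372), (nat_lit 16454664964), (nat_lit 18403870468)]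

def m2 : PM :=
  ⟨(nat_lit 16), (nat_lit 4), [(nat_lit 0xef9547d3a2cb8601), (nat_lit 0xd6f4b9a82e5c1730), (nat_lit 0x8c5eb63f7ad19240), (nat_lit 0xfedcba9876543210), (nat_lit 0xa96cbfe42d183750), (nat_lit 0xf9d6b3e25c71a840), (nat_lit 0x98cdb4fe763a5012)],
    [[.l 1, .l 2, .l 3, .l 5, .l 6, .l 7],
    [.l 1, .mul (.mul (.mul (.l 5) (.l 2)) (.l 1)) (.inv (.mul (.l 5) (.l 2))), .pow (.mul (.l 1) (.l 3)) 2, .pow (.mul (.l 1) (.mul (.mul (.l 2) (.l 3)) (.l 2))) 2],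
    [.l 1, .l 2, .l 3, .l 5, .l 6]],
    [m2_L0, m2_L1, m2_L2], [m2_D0, m2_D1, m2_D2]⟩

instance m2_ne : NeZero m2.n := ⟨by decide⟩

theorem m2_ok0 : m2.ok0 = true := by decide +kernel

theorem m2_k0 : allFrom (nat_lit 0) (nat_lit 1) m2.okK = true := by decide +kernel

theorem m2_k1 : allFrom (nat_lit 1) (nat_lit 1) m2.okK = true := by decide +kernel

theorem m2_k2 : allFrom (nat_lit 2) (nat_lit 1) m2.okK = true := by decide +kernel

theorem m2_ok : m2.OK := PM.OK.of_check m2_ok0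
  (of_allFrom_append (of_allFrom_append (of_allFrom_append of_lt_zero m2_k0) m2_k1) m2_k2)

theorem m2_card0 : Nat.card (genW m2.gam (m2.ws 0)) = 40320 := (m2_ok.card 0).trans (by decide +kernel)

theorem m2_card1 : Nat.card (genW m2.gam (m2.ws 1)) = 16 := (m2_ok.card 1).trans (by decide +kernel)

theorem m2_card2 : Nat.card (genW m2.gam (m2.ws 2)) = 2688 := (m2_ok.card 2).trans (by decide +kernel)

theorem m2_lab : Lab m2.gam iv := m2_ok.lab (by decide) (by decide +kernel) (by decide)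

theorem m2_relP : ∀ t ∈ relP2, t.ev m2.gam = 1 := m2_ok.rels (by decide +kernel)

theorem m2_relM : ∀ t ∈ relM2, t.ev m2.gam = 1 := m2_ok.rels (by decide +kernel)

theorem hh_relP2 : ∀ t ∈ relP2, t.ev hh.gam = 1 := hh_ok.rels (by decide +kernel)

theorem hh_relQ2 : ∀ t ∈ relQ2, t.ev hh.gam = 1 := hh_ok.rels (by decide +kernel)

/-- the letters of the parabolic subgroup -/
def labP2 : List W := [.l 0, .l 1, .l 2, .l 3, .l 0, .l 5, .l 6]

/-- the letters of `2⁴:A₇` -/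
def labM2 : List W := [.l 0, .l 1, .l 2, .l 3, .l 0, .l 5, .l 6, .l 7]

theorem m2_res : newLet m2.gam labM2 = m2.gam := m2_ok.newLet_eq m2_lab (by decide) (by decide) (by decide +kernel)

/-- relators of `McL` from `C(z)` -/
def relG0 : List W := [.pow (.mul (.l 1) (.l 4)) 3, .mul (.mul (.mul (.mul (.mul (.l 1) (.l 4)) (.l 6)) (.l 4)) (.l 1)) (.l 6), .pow (.mul (.l 4) (.l 5)) 3, .pow (.mul (.l 5) (.l 6)) 3, .mul (.mul (.mul (.mul (.mul (.mul (.mul (.l 1) (.l 4)) (.l 1)) (.l 4)) (.l 6)) (.l 1)) (.l 4)) (.l 6), .pow (.mul (.l 1) (.l 5)) 4, .pow (.mul (.l 1) (.l 6)) 4, .mul (.mul (.mul (.mul (.mul (.mul (.mul (.l 1) (.l 6)) (.l 1)) (.l 6)) (.l 4)) (.l 6)) (.l 4)) (.l 6), .mul (.mul (.mul (.mul (.mul (.mul (.mul (.mul (.mul (.l 1) (.l 4)) (.l 1)) (.l 4)) (.l 1)) (.l 5)) (.l 4)) (.l 5)) (.l 4)) (.l 5), .mul (.mul (.mul (.mul (.mul (.mul (.mul (.mul (.mul (.l 1) (.l 4)) (.l 5)) (.l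 6)) (.l 5)) (.l 6)) (.l 5)) (.l 4)) (.l 1)) (.l 6), .mul (.mul (.mul (.mul (.mul (.mul (.mul (.mul (.mul (.l 1) (.l 4)) (.l 6)) (.l 1)) (.l 6)) (.l 4)) (.l 6)) (.l 1)) (.l 6)) (.l 4), .mul (.mul (.mul (.mul (.mul (.mul (.mul (.mul (.mul (.l 1) (.l 4)) (.l 6)) (.l 4)) (.l 1)) (.l 5)) (.l 6)) (.l 5)) (.l 6)) (.l 5), .mul (.mul (.mul (.mul (.mul (.mul (.mul (.mul (.mul (.l 1) (.l 4)) (.l 6)) (.l 5)) (.l 4)) (.l 5)) (.l 4)) (.l 5)) (.l 1)) (.l 6), .mul (.mul (.mul (.mul (.mul (.mul (.mul (.mul (.mul (.l 1) (.l 5)) (.l 1)) (.l 6)) (.l 1)) (.l 5)) (.l 6)) (.l 5)) (.l 1)) (.l 6), .mul (.mul (.mul (.mul (.mul (.mul (.mul (.mul (.mul (.l 1) (.l 5)) (.l 1)) (.l 6)) (.l 1)) (.l 6)) (.l 5)) (.l 6)) (.l 1)) (.l 6), .mul (.mul (.mul (.mul (.mul (.mul (.mul (.mul (.mul (.l 1) (.l 5)) (.l 4)) (.l 6)) (.l 4)) (.l 5)) (.l 6)) (.l 5)) (.l 1)) (.l 6), .mul (.mul (.mul (.mul (.mul (.mul (.mul (.mul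 (.mul (.l 1) (.l 5)) (.l 4)) (.l 6)) (.l 4)) (.l 6)) (.l 5)) (.l 6)) (.l 1)) (.l 6), .pow (.mul (.mul (.mul (.mul (.l 1) (.l 5)) (.l 6)) (.l 1)) (.l 6)) 2, .mul (.mul (.mul (.mul (.mul (.mul (.mul (.mul (.mul (.l 1) (.l 5)) (.l 6)) (.l 4)) (.l 6)) (.l 4)) (.l 5)) (.l 6)) (.l 1)) (.l 6), .mul (.mul (.mul (.mul (.mul (.mul (.mul (.mul (.mul (.l 4) (.l 5)) (.l 4)) (.l 5)) (.l 4)) (.l 6)) (.l 5)) (.l 6)) (.l 5)) (.l 6), .mul (.mul (.mul (.mul (.mul (.mul (.mul (.mul (.mul (.l 4) (.l 5)) (.l 4)) (.l 6)) (.l 4)) (.l 5)) (.l 6)) (.l 5)) (.l 4)) (.l 6), .mul (.mul (.mul (.mul (.mul (.mul (.mul (.mul (.mul (.l 4) (.l 5)) (.l 6)) (.l 4)) (.l 5)) (.l 6)) (.l 5)) (.l 4)) (.l 6)) (.l 5), .pow (.mul (.mul (.mul (.mul (.l 4) (.l 5)) (.l 6)) (.l 4)) (.l 6)) 2, .mul (.mul (.mul (.mul (.mul (.mul (.mul (.mul (.mul (.l 4) (.l 5)) (.l 6)) (.l 4)) (.l 6)) (.l 5)) (.l 6)) (.l 4)) (.l 6)) (.l 5), .mul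 (.mul (.mul (.mul (.mul (.mul (.mul (.mul (.mul (.mul (.mul (.l 1) (.l 4)) (.l 1)) (.l 4)) (.l 5)) (.l 1)) (.l 5)) (.l 1)) (.l 5)) (.l 1)) (.l 5)) (.l 4), .mul (.mul (.mul (.mul (.mul (.mul (.mul (.mul (.mul (.mul (.mul (.l 1) (.l 4)) (.l 1)) (.l 4)) (.l 6)) (.l 1)) (.l 5)) (.l 4)) (.l 5)) (.l 4)) (.l 5)) (.l 6), .mul (.mul (.mul (.mul (.mul (.mul (.mul (.mul (.mul (.mul (.mul (.l 1) (.l 4)) (.l 5)) (.l 1)) (.l 6)) (.l 1)) (.l 6)) (.l 5)) (.l 4)) (.l 6)) (.l 1)) (.l 6), .mul (.mul (.mul (.mul (.mul (.mul (.mul (.mul (.mul (.mul (.mul (.l 1) (.l 4)) (.l 5)) (.l 4)) (.l 5)) (.l 4)) (.l 1)) (.l 5)) (.l 1)) (.l 5)) (.l 1)) (.l 5), .mul (.mul (.mul (.mul (.mul (.mul (.mul (.mul (.mul (.mul (.mul (.l 1) (.l 4)) (.l 5)) (.l 4)) (.l 6)) (.l 4)) (.l 6)) (.l 5)) (.l 4)) (.l 6)) (.l 1)) (.l 6), .mul (.mul (.mul (.mul (.mul (.mul (.mul (.mul (.mul (.mul (.mul (.l 1) (.l 4)) (.l 6)) (.l 4))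 (.l 5)) (.l 1)) (.l 5)) (.l 1)) (.l 5)) (.l 1)) (.l 5)) (.l 6), .mul (.mul (.mul (.mul (.mul (.mul (.mul (.mul (.mul (.mul (.mul (.l 1) (.l 4)) (.l 6)) (.l 4)) (.l 6)) (.l 1)) (.l 5)) (.l 6)) (.l 1)) (.l 6)) (.l 1)) (.l 5), .mul (.mul (.mul (.mul (.mul (.mul (.mul (.mul (.mul (.mul (.mul (.l 1) (.l 4)) (.l 6)) (.l 4)) (.l 6)) (.l 1)) (.l 5)) (.l 6)) (.l 4)) (.l 6)) (.l 4)) (.l 5), .mul (.mul (.mul (.mul (.mul (.mul (.mul (.mul (.mul (.mul (.mul (.l 1) (.l 5)) (.l 1)) (.l 5)) (.l 6)) (.l 1)) (.l 5)) (.l 6)) (.l 5)) (.l 1)) (.l 6)) (.l 5), .mul (.mul (.mul (.mul (.mul (.mul (.mul (.mul (.mul (.mul (.mul (.l 1) (.l 5)) (.l 1)) (.l 5)) (.l 6)) (.l 1)) (.l 6)) (.l 5)) (.l 6)) (.l 1)) (.l 6)) (.l 5), .mul (.mul (.mul (.mul (.mul (.mul (.mul (.mul (.mul (.mul (.mul (.l 1) (.l 5)) (.l 4)) (.l 6)) (.l 5)) (.l 4)) (.l 5)) (.l 4)) (.l 6)) (.l 5)) (.l 1)) (.l 6), .pow (.mul (.mul (.mul (.mul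 (.mul (.l 1) (.l 5)) (.l 6)) (.l 1)) (.l 6)) (.l 5)) 2, .mul (.mul (.mul (.mul (.mul (.mul (.mul (.mul (.mul (.mul (.mul (.l 4) (.l 5)) (.l 4)) (.l 5)) (.l 6)) (.l 4)) (.l 5)) (.l 4)) (.l 6)) (.l 4)) (.l 5)) (.l 6), .mul (.mul (.mul (.mul (.mul (.mul (.mul (.mul (.mul (.mul (.mul (.mul (.mul (.l 1) (.l 4)) (.l 1)) (.l 4)) (.l 1)) (.l 5)) (.l 4)) (.l 6)) (.l 5)) (.l 6)) (.l 5)) (.l 6)) (.l 4)) (.l 5), .mul (.mul (.mul (.mul (.mul (.mul (.mul (.mul (.mul (.mul (.mul (.mul (.mul (.l 1) (.l 4)) (.l 1)) (.l 4)) (.l 1)) (.l 5)) (.l 6)) (.l 4)) (.l 5)) (.l 6)) (.l 5)) (.l 4)) (.l 6)) (.l 5), .mul (.mul (.mul (.mul (.mul (.mul (.mul (.mul (.mul (.mul (.mul (.mul (.mul (.l 1) (.l 4)) (.l 1)) (.l 4)) (.l 1)) (.l 5)) (.l 6)) (.l 4)) (.l 6)) (.l 5)) (.l 6)) (.l 4)) (.l 6)) (.l 5), .mul (.mul (.mul (.mul (.mul (.mul (.mul (.mul (.mul (.mul (.mul (.mul (.mul (.l 1) (.l 4)) (.l 1)) (.l 5)) (.l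 1)) (.l 6)) (.l 1)) (.l 5)) (.l 6)) (.l 5)) (.l 1)) (.l 4)) (.l 1)) (.l 6), .mul (.mul (.mul (.mul (.mul (.mul (.mul (.mul (.mul (.mul (.mul (.mul (.mul (.l 1) (.l 4)) (.l 1)) (.l 5)) (.l 4)) (.l 6)) (.l 4)) (.l 5)) (.l 6)) (.l 5)) (.l 1)) (.l 4)) (.l 1)) (.l 6), .mul (.mul (.mul (.mul (.mul (.mul (.mul (.mul (.mul (.mul (.mul (.mul (.mul (.l 1) (.l 4)) (.l 5)) (.l 1)) (.l 5)) (.l 1)) (.l 5)) (.l 1)) (.l 5)) (.l 4)) (.l 6)) (.l 1)) (.l 4)) (.l 6), .mul (.mul (.mul (.mul (.mul (.mul (.mul (.mul (.mul (.mul (.mul (.mul (.mul (.l 1) (.l 4)) (.l 5)) (.l 4)) (.l 6)) (.l 5)) (.l 4)) (.l 5)) (.l 6)) (.l 4)) (.l 5)) (.l 4)) (.l 1)) (.l 6), .mul (.mul (.mul (.mul (.mul (.mul (.mul (.mul (.mul (.mul (.mul (.mul (.mul (.l 1) (.l 4)) (.l 5)) (.l 6)) (.l 4)) (.l 5)) (.l 4)) (.l 5)) (.l 4)) (.l 6)) (.l 5)) (.l 4)) (.l 1)) (.l 6), .mul (.mul (.mul (.mul (.mul (.mul (.mul (.mul (.mul (.mul (.mul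 (.mul (.mul (.l 1) (.l 4)) (.l 5)) (.l 6)) (.l 5)) (.l 6)) (.l 5)) (.l 4)) (.l 1)) (.l 5)) (.l 6)) (.l 5)) (.l 6)) (.l 5), .mul (.mul (.mul (.mul (.mul (.mul (.mul (.mul (.mul (.mul (.mul (.mul (.mul (.l 1) (.l 4)) (.l 6)) (.l 4)) (.l 1)) (.l 5)) (.l 4)) (.l 6)) (.l 5)) (.l 4)) (.l 5)) (.l 6)) (.l 4)) (.l 5), .mul (.mul (.mul (.mul (.mul (.mul (.mul (.mul (.mul (.mul (.mul (.mul (.mul (.l 1) (.l 4)) (.l 6)) (.l 4)) (.l 1)) (.l 5)) (.l 6)) (.l 4)) (.l 5)) (.l 4)) (.l 5)) (.l 4)) (.l 6)) (.l 5), .mul (.mul (.mul (.mul (.mul (.mul (.mul (.mul (.mul (.mul (.mul (.mul (.mul (.l 1) (.l 5)) (.l 1)) (.l 5)) (.l 4)) (.l 6)) (.l 4)) (.l 6)) (.l 5)) (.l 1)) (.l 5)) (.l 6)) (.l 1)) (.l 6), .mul (.mul (.mul (.mul (.mul (.mul (.mul (.mul (.mul (.mul (.mul (.mul (.mul (.l 1) (.l 5)) (.l 1)) (.l 5)) (.l 6)) (.l 1)) (.l 5)) (.l 6)) (.l 5)) (.l 1)) (.l 5)) (.l 6)) (.l 5)) (.l 6), .mul (.mul (.mul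 (.mul (.mul (.mul (.mul (.mul (.mul (.mul (.mul (.mul (.mul (.l 1) (.l 5)) (.l 1)) (.l 5)) (.l 6)) (.l 1)) (.l 6)) (.l 5)) (.l 1)) (.l 5)) (.l 1)) (.l 6)) (.l 1)) (.l 6), .mul (.mul (.mul (.mul (.mul (.mul (.mul (.mul (.mul (.mul (.mul (.mul (.mul (.l 1) (.l 5)) (.l 1)) (.l 5)) (.l 6)) (.l 1)) (.l 6)) (.l 5)) (.l 1)) (.l 5)) (.l 4)) (.l 6)) (.l 4)) (.l 6), .mul (.mul (.mul (.mul (.mul (.mul (.mul (.mul (.mul (.mul (.mul (.mul (.mul (.l 1) (.l 5)) (.l 1)) (.l 5)) (.l 6)) (.l 4)) (.l 6)) (.l 4)) (.l 5)) (.l 1)) (.l 5)) (.l 6)) (.l 1)) (.l 6), .mul (.mul (.mul (.mul (.mul (.mul (.mul (.mul (.mul (.mul (.mul (.mul (.mul (.l 1) (.l 5)) (.l 1)) (.l 5)) (.l 6)) (.l 5)) (.l 6)) (.l 5)) (.l 1)) (.l 5)) (.l 6)) (.l 5)) (.l 1)) (.l 6), .mul (.mul (.mul (.mul (.mul (.mul (.mul (.mul (.mul (.mul (.mul (.mul (.mul (.l 1) (.l 5)) (.l 4)) (.l 6)) (.l 4)) (.l 5)) (.l 6)) (.l 5)) (.l 1)) (.l 5))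 (.l 6)) (.l 5)) (.l 6)) (.l 5), .pow (.mul (.mul (.mul (.mul (.mul (.mul (.l 1) (.l 5)) (.l 4)) (.l 6)) (.l 4)) (.l 6)) (.l 5)) 2, .mul (.mul (.mul (.mul (.mul (.mul (.mul (.mul (.mul (.mul (.mul (.mul (.mul (.l 1) (.l 5)) (.l 4)) (.l 6)) (.l 4)) (.l 6)) (.l 5)) (.l 1)) (.l 5)) (.l 6)) (.l 4)) (.l 6)) (.l 4)) (.l 5), .mul (.mul (.mul (.mul (.mul (.mul (.mul (.mul (.mul (.mul (.mul (.mul (.mul (.l 1) (.l 5)) (.l 6)) (.l 4)) (.l 6)) (.l 4)) (.l 5)) (.l 6)) (.l 1)) (.l 5)) (.l 6)) (.l 5)) (.l 6)) (.l 5)]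

/-- relators of `McL` from the first `2⁴:A₇` -/
def relG1 : List W := [.pow (.mul (.l 5) (.l 7)) 3, .pow (.mul (.l 1) (.l 7)) 4, .pow (.mul (.mul (.l 1) (.l 5)) (.l 7)) 3, .mul (.mul (.mul (.mul (.mul (.mul (.mul (.mul (.mul (.l 4) (.l 5)) (.l 4)) (.l 5)) (.l 4)) (.l 7)) (.l 5)) (.l 7)) (.l 5)) (.l 7), .mul (.mul (.mul (.mul (.mul (.mul (.mul (.mul (.mul (.mul (.l 1) (.l 5)) (.l 7)) (.l 1)) (.l 5)) (.l 7)) (.l 1)) (.l 7)) (.l 5)) (.l 7)) (.l 5), .mul (.mul (.mul (.mul (.mul (.mul (.mul (.mul (.mul (.mul (.mul (.l 1) (.l 4)) (.l 1)) (.l 4)) (.l 7)) (.l 1)) (.l 7)) (.l 1)) (.l 7)) (.l 1)) (.l 7)) (.l 4), .pow (.mul (.mul (.mul (.mul (.mul (.l 1) (.l 4)) (.l 1)) (.l 7)) (.l 4)) (.l 7)) 2, .mul (.mul (.mul (.mul (.mul (.mul (.mul (.mul (.mul (.mul (.mul (.l 1) (.l 4)) (.l 1)) (.l 7)) (.l 4)) (.l 7)) (.l 4)) (.l 1)) (.l 4)) (.l 7)) (.l 4)) (.l 7), .pow (.mul (.mul (.l 1) (.l 4)) (.l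 7)) 4, .pow (.mul (.mul (.mul (.mul (.mul (.l 1) (.l 4)) (.l 7)) (.l 4)) (.l 7)) (.l 4)) 2, .pow (.mul (.mul (.mul (.l 1) (.l 5)) (.l 1)) (.l 7)) 3, .pow (.mul (.mul (.mul (.mul (.mul (.l 1) (.l 5)) (.l 7)) (.l 1)) (.l 7)) (.l 5)) 2, .mul (.mul (.mul (.mul (.mul (.mul (.mul (.mul (.mul (.mul (.mul (.l 1) (.l 5)) (.l 7)) (.l 5)) (.l 7)) (.l 5)) (.l 1)) (.l 7)) (.l 1)) (.l 7)) (.l 1)) (.l 7), .pow (.mul (.mul (.mul (.l 1) (.l 7)) (.l 4)) (.l 7)) 3, .pow (.mul (.mul (.l 4) (.l 5)) (.l 7)) 4, .pow (.mul (.l 4) (.l 7)) 6, .mul (.mul (.mul (.mul (.mul (.mul (.mul (.mul (.mul (.mul (.mul (.mul (.l 1) (.l 4)) (.l 1)) (.l 4)) (.l 5)) (.l 7)) (.l 1)) (.l 5)) (.l 7)) (.l 1)) (.l 5)) (.l 7)) (.l 4), .mul (.mul (.mul (.mul (.mul (.mul (.mul (.mul (.mul (.mul (.mul (.mul (.l 1) (.l 4)) (.l 5)) (.l 4)) (.l 5)) (.l 4)) (.l 7)) (.l 1)) (.l 5)) (.l 7)) (.l 1)) (.l 5)) (.l 7), .mul (.mul (.mul (.mul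 (.mul (.mul (.mul (.mul (.mul (.mul (.mul (.mul (.l 1) (.l 5)) (.l 1)) (.l 5)) (.l 1)) (.l 5)) (.l 7)) (.l 5)) (.l 1)) (.l 7)) (.l 5)) (.l 1)) (.l 7), .mul (.mul (.mul (.mul (.mul (.mul (.mul (.mul (.mul (.mul (.mul (.mul (.l 1) (.l 5)) (.l 1)) (.l 7)) (.l 1)) (.l 7)) (.l 1)) (.l 5)) (.l 7)) (.l 5)) (.l 1)) (.l 5)) (.l 7), .mul (.mul (.mul (.mul (.mul (.mul (.mul (.mul (.mul (.mul (.mul (.mul (.mul (.l 1) (.l 4)) (.l 1)) (.l 4)) (.l 1)) (.l 5)) (.l 4)) (.l 7)) (.l 5)) (.l 7)) (.l 5)) (.l 7)) (.l 4)) (.l 5), .mul (.mul (.mul (.mul (.mul (.mul (.mul (.mul (.mul (.mul (.mul (.mul (.mul (.l 1) (.l 4)) (.l 1)) (.l 4)) (.l 7)) (.l 4)) (.l 1)) (.l 7)) (.l 4)) (.l 1)) (.l 7)) (.l 4)) (.l 1)) (.l 7), .mul (.mul (.mul (.mul (.mul (.mul (.mul (.mul (.mul (.mul (.mul (.mul (.mul (.l 1) (.l 4)) (.l 5)) (.l 1)) (.l 7)) (.l 1)) (.l 5)) (.l 7)) (.l 5)) (.l 4)) (.l 7)) (.l 4)) (.l 1)) (.l 7), .mul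 (.mul (.mul (.mul (.mul (.mul (.mul (.mul (.mul (.mul (.mul (.mul (.mul (.l 1) (.l 4)) (.l 5)) (.l 1)) (.l 7)) (.l 1)) (.l 7)) (.l 5)) (.l 7)) (.l 4)) (.l 7)) (.l 4)) (.l 1)) (.l 7), .pow (.mul (.mul (.mul (.mul (.mul (.mul (.l 1) (.l 4)) (.l 5)) (.l 4)) (.l 7)) (.l 4)) (.l 5)) 2, .mul (.mul (.mul (.mul (.mul (.mul (.mul (.mul (.mul (.mul (.mul (.mul (.mul (.l 1) (.l 4)) (.l 5)) (.l 4)) (.l 7)) (.l 4)) (.l 5)) (.l 1)) (.l 5)) (.l 4)) (.l 5)) (.l 7)) (.l 4)) (.l 5), .mul (.mul (.mul (.mul (.mul (.mul (.mul (.mul (.mul (.mul (.mul (.mul (.mul (.l 1) (.l 4)) (.l 5)) (.l 7)) (.l 1)) (.l 7)) (.l 1)) (.l 5)) (.l 7)) (.l 4)) (.l 7)) (.l 4)) (.l 1)) (.l 7), .mul (.mul (.mul (.mul (.mul (.mul (.mul (.mul (.mul (.mul (.mul (.mul (.mul (.l 1) (.l 4)) (.l 7)) (.l 1)) (.l 7)) (.l 4)) (.l 7)) (.l 1)) (.l 7)) (.l 4)) (.l 1)) (.l 7)) (.l 1)) (.l 7), .mul (.mul (.mul (.mul (.mul (.mul (.mul (.mul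 (.mul (.mul (.mul (.mul (.mul (.l 1) (.l 4)) (.l 7)) (.l 4)) (.l 7)) (.l 1)) (.l 7)) (.l 4)) (.l 7)) (.l 4)) (.l 1)) (.l 7)) (.l 4)) (.l 7), .mul (.mul (.mul (.mul (.mul (.mul (.mul (.mul (.mul (.mul (.mul (.mul (.mul (.l 1) (.l 4)) (.l 7)) (.l 4)) (.l 7)) (.l 4)) (.l 1)) (.l 7)) (.l 4)) (.l 7)) (.l 4)) (.l 7)) (.l 4)) (.l 7), .mul (.mul (.mul (.mul (.mul (.mul (.mul (.mul (.mul (.mul (.mul (.mul (.mul (.l 1) (.l 5)) (.l 1)) (.l 5)) (.l 1)) (.l 5)) (.l 7)) (.l 1)) (.l 7)) (.l 1)) (.l 7)) (.l 1)) (.l 7)) (.l 5), .mul (.mul (.mul (.mul (.mul (.mul (.mul (.mul (.mul (.mul (.mul (.mul (.mul (.l 1) (.l 5)) (.l 1)) (.l 5)) (.l 1)) (.l 7)) (.l 1)) (.l 7)) (.l 5)) (.l 1)) (.l 5)) (.l 7)) (.l 1)) (.l 7), .mul (.mul (.mul (.mul (.mul (.mul (.mul (.mul (.mul (.mul (.mul (.mul (.mul (.l 1) (.l 5)) (.l 1)) (.l 5)) (.l 7)) (.l 1)) (.l 7)) (.l 5)) (.l 1)) (.l 5)) (.l 1)) (.l 7)) (.l 1)) (.l 7),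 .pow (.mul (.mul (.mul (.mul (.mul (.mul (.l 1) (.l 5)) (.l 4)) (.l 5)) (.l 7)) (.l 4)) (.l 5)) 2, .mul (.mul (.mul (.mul (.mul (.mul (.mul (.mul (.mul (.mul (.mul (.mul (.mul (.l 4) (.l 5)) (.l 4)) (.l 5)) (.l 7)) (.l 5)) (.l 4)) (.l 7)) (.l 5)) (.l 4)) (.l 7)) (.l 5)) (.l 4)) (.l 7), .mul (.mul (.mul (.mul (.mul (.mul (.mul (.mul (.mul (.mul (.mul (.mul (.mul (.l 4) (.l 5)) (.l 4)) (.l 7)) (.l 4)) (.l 5)) (.l 7)) (.l 4)) (.l 5)) (.l 7)) (.l 4)) (.l 7)) (.l 5)) (.l 7)]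

/-- relators of `McL` from the second `2⁴:A₇` -/
def relG2 : List W := [.pow (.mul (.mul (.mul (.l 1) (.l 6)) (.l 7)) (.l 6)) 2, .mul (.mul (.mul (.mul (.mul (.mul (.mul (.mul (.l 1) (.l 5)) (.l 1)) (.l 5)) (.l 6)) (.l 7)) (.l 1)) (.l 7)) (.l 6), .mul (.mul (.mul (.mul (.mul (.mul (.mul (.mul (.mul (.l 1) (.l 6)) (.l 1)) (.l 6)) (.l 1)) (.l 7)) (.l 6)) (.l 1)) (.l 6)) (.l 7), .pow (.mul (.mul (.mul (.mul (.l 5) (.l 6)) (.l 7)) (.l 6)) (.l 7)) 2, .mul (.mul (.mul (.mul (.mul (.mul (.mul (.mul (.mul (.mul (.l 1) (.l 5)) (.l 1)) (.l 5)) (.l 6)) (.l 1)) (.l 7)) (.l 1)) (.l 7)) (.l 1)) (.l 6), .mul (.mul (.mul (.mul (.mul (.mul (.mul (.mul (.mul (.mul (.l 1) (.l 5)) (.l 1)) (.l 5)) (.l 7)) (.l 5)) (.l 6)) (.l 1)) (.l 6)) (.l 5)) (.l 7), .mul (.mul (.mul (.mul (.mul (.mul (.mul (.mul (.mul (.mul (.l 1) (.l 5)) (.l 1)) (.l 6)) (.l 5)) (.l 6)) (.l 5)) (.l 7)) (.l 1)) (.l 7)) (.l 6), .mul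 (.mul (.mul (.mul (.mul (.mul (.mul (.mul (.mul (.mul (.l 1) (.l 5)) (.l 1)) (.l 7)) (.l 5)) (.l 6)) (.l 1)) (.l 6)) (.l 7)) (.l 5)) (.l 7), .mul (.mul (.mul (.mul (.mul (.mul (.mul (.mul (.mul (.mul (.l 1) (.l 5)) (.l 6)) (.l 5)) (.l 1)) (.l 5)) (.l 6)) (.l 5)) (.l 7)) (.l 1)) (.l 7), .mul (.mul (.mul (.mul (.mul (.mul (.mul (.mul (.mul (.mul (.l 1) (.l 5)) (.l 6)) (.l 5)) (.l 1)) (.l 6)) (.l 5)) (.l 6)) (.l 7)) (.l 1)) (.l 7), .mul (.mul (.mul (.mul (.mul (.mul (.mul (.mul (.mul (.mul (.l 1) (.l 5)) (.l 6)) (.l 5)) (.l 7)) (.l 1)) (.l 7)) (.l 1)) (.l 6)) (.l 5)) (.l 6), .mul (.mul (.mul (.mul (.mul (.mul (.mul (.mul (.mul (.mul (.l 1) (.l 5)) (.l 6)) (.l 7)) (.l 1)) (.l 6)) (.l 1)) (.l 6)) (.l 7)) (.l 6)) (.l 5), .mul (.mul (.mul (.mul (.mul (.mul (.mul (.mul (.mul (.mul (.l 1) (.l 6)) (.l 5)) (.l 6)) (.l 1)) (.l 6)) (.l 5)) (.l 6)) (.l 7)) (.l 1)) (.l 7), .mul (.mul (.mul (.mul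 (.mul (.mul (.mul (.mul (.mul (.mul (.mul (.l 1) (.l 5)) (.l 1)) (.l 5)) (.l 7)) (.l 6)) (.l 1)) (.l 7)) (.l 1)) (.l 7)) (.l 6)) (.l 7), .mul (.mul (.mul (.mul (.mul (.mul (.mul (.mul (.mul (.mul (.mul (.l 1) (.l 5)) (.l 1)) (.l 5)) (.l 7)) (.l 6)) (.l 7)) (.l 1)) (.l 7)) (.l 1)) (.l 6)) (.l 7), .mul (.mul (.mul (.mul (.mul (.mul (.mul (.mul (.mul (.mul (.mul (.l 1) (.l 5)) (.l 1)) (.l 6)) (.l 1)) (.l 6)) (.l 5)) (.l 7)) (.l 6)) (.l 1)) (.l 6)) (.l 7), .mul (.mul (.mul (.mul (.mul (.mul (.mul (.mul (.mul (.mul (.mul (.l 1) (.l 5)) (.l 6)) (.l 1)) (.l 6)) (.l 1)) (.l 5)) (.l 7)) (.l 6)) (.l 1)) (.l 6)) (.l 7), .mul (.mul (.mul (.mul (.mul (.mul (.mul (.mul (.mul (.mul (.mul (.l 1) (.l 5)) (.l 6)) (.l 1)) (.l 6)) (.l 7)) (.l 1)) (.l 5)) (.l 7)) (.l 5)) (.l 1)) (.l 7), .mul (.mul (.mul (.mul (.mul (.mul (.mul (.mul (.mul (.mul (.mul (.l 1) (.l 5)) (.l 6)) (.l 1)) (.l 6)) (.l 7)) (.l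 1)) (.l 7)) (.l 5)) (.l 7)) (.l 1)) (.l 7), .mul (.mul (.mul (.mul (.mul (.mul (.mul (.mul (.mul (.mul (.mul (.l 1) (.l 5)) (.l 6)) (.l 5)) (.l 6)) (.l 5)) (.l 7)) (.l 6)) (.l 1)) (.l 6)) (.l 7)) (.l 6), .mul (.mul (.mul (.mul (.mul (.mul (.mul (.mul (.mul (.mul (.mul (.l 1) (.l 5)) (.l 7)) (.l 1)) (.l 6)) (.l 1)) (.l 6)) (.l 5)) (.l 7)) (.l 5)) (.l 1)) (.l 7), .mul (.mul (.mul (.mul (.mul (.mul (.mul (.mul (.mul (.mul (.mul (.l 1) (.l 5)) (.l 7)) (.l 1)) (.l 6)) (.l 1)) (.l 6)) (.l 7)) (.l 5)) (.l 7)) (.l 1)) (.l 7), .mul (.mul (.mul (.mul (.mul (.mul (.mul (.mul (.mul (.mul (.mul (.l 1) (.l 5)) (.l 7)) (.l 1)) (.l 7)) (.l 6)) (.l 1)) (.l 6)) (.l 5)) (.l 7)) (.l 1)) (.l 7), .mul (.mul (.mul (.mul (.mul (.mul (.mul (.mul (.mul (.mul (.mul (.l 1) (.l 5)) (.l 7)) (.l 5)) (.l 1)) (.l 6)) (.l 1)) (.l 6)) (.l 7)) (.l 5)) (.l 1)) (.l 7), .mul (.mul (.mul (.mul (.mul (.mul (.mul (.mul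 (.mul (.mul (.mul (.l 1) (.l 5)) (.l 7)) (.l 6)) (.l 7)) (.l 6)) (.l 5)) (.l 7)) (.l 1)) (.l 6)) (.l 7)) (.l 6), .pow (.mul (.mul (.mul (.mul (.mul (.l 1) (.l 6)) (.l 1)) (.l 6)) (.l 1)) (.l 7)) 2, .pow (.mul (.mul (.mul (.mul (.mul (.l 1) (.l 6)) (.l 5)) (.l 7)) (.l 6)) (.l 7)) 2, .mul (.mul (.mul (.mul (.mul (.mul (.mul (.mul (.mul (.mul (.mul (.l 1) (.l 6)) (.l 5)) (.l 7)) (.l 6)) (.l 7)) (.l 1)) (.l 7)) (.l 6)) (.l 7)) (.l 5)) (.l 6), .pow (.mul (.mul (.mul (.mul (.mul (.l 1) (.l 7)) (.l 5)) (.l 6)) (.l 5)) (.l 7)) 2, .mul (.mul (.mul (.mul (.mul (.mul (.mul (.mul (.mul (.mul (.mul (.l 5) (.l 6)) (.l 5)) (.l 6)) (.l 7)) (.l 6)) (.l 7)) (.l 6)) (.l 5)) (.l 7)) (.l 6)) (.l 7), .pow (.mul (.mul (.mul (.l 5) (.l 6)) (.l 5)) (.l 7)) 3, .mul (.mul (.mul (.mul (.mul (.mul (.mul (.mul (.mul (.mul (.mul (.l 5) (.l 6)) (.l 5)) (.l 7)) (.l 5)) (.l 6)) (.l 5)) (.l 7)) (.l 6)) (.l 5)) (.l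 6)) (.l 7), .mul (.mul (.mul (.mul (.mul (.mul (.mul (.mul (.mul (.mul (.mul (.l 5) (.l 6)) (.l 5)) (.l 7)) (.l 5)) (.l 6)) (.l 7)) (.l 5)) (.l 7)) (.l 6)) (.l 5)) (.l 7), .pow (.mul (.mul (.l 5) (.l 6)) (.l 7)) 4, .mul (.mul (.mul (.mul (.mul (.mul (.mul (.mul (.mul (.mul (.mul (.l 5) (.l 6)) (.l 7)) (.l 5)) (.l 6)) (.l 7)) (.l 5)) (.l 7)) (.l 6)) (.l 5)) (.l 7)) (.l 6), .mul (.mul (.mul (.mul (.mul (.mul (.mul (.mul (.mul (.mul (.mul (.l 5) (.l 6)) (.l 7)) (.l 6)) (.l 5)) (.l 7)) (.l 5)) (.l 7)) (.l 6)) (.l 7)) (.l 6)) (.l 7), .pow (.mul (.l 6) (.l 7)) 6, .mul (.mul (.mul (.mul (.mul (.mul (.mul (.mul (.mul (.mul (.mul (.mul (.l 1) (.l 5)) (.l 1)) (.l 5)) (.l 1)) (.l 6)) (.l 5)) (.l 1)) (.l 7)) (.l 1)) (.l 7)) (.l 5)) (.l 6), .mul (.mul (.mul (.mul (.mul (.mul (.mul (.mul (.mul (.mul (.mul (.mul (.l 1) (.l 5)) (.l 1)) (.l 5)) (.l 6)) (.l 7)) (.l 1)) (.l 5)) (.l 7)) (.l 5)) (.l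 7)) (.l 5)) (.l 6), .mul (.mul (.mul (.mul (.mul (.mul (.mul (.mul (.mul (.mul (.mul (.mul (.l 1) (.l 5)) (.l 1)) (.l 5)) (.l 7)) (.l 1)) (.l 5)) (.l 6)) (.l 1)) (.l 6)) (.l 5)) (.l 1)) (.l 7), .mul (.mul (.mul (.mul (.mul (.mul (.mul (.mul (.mul (.mul (.mul (.mul (.l 1) (.l 5)) (.l 1)) (.l 5)) (.l 7)) (.l 1)) (.l 6)) (.l 1)) (.l 6)) (.l 5)) (.l 1)) (.l 5)) (.l 7), .mul (.mul (.mul (.mul (.mul (.mul (.mul (.mul (.mul (.mul (.mul (.mul (.l 1) (.l 5)) (.l 1)) (.l 5)) (.l 7)) (.l 5)) (.l 1)) (.l 5)) (.l 1)) (.l 6)) (.l 1)) (.l 6)) (.l 7), .mul (.mul (.mul (.mul (.mul (.mul (.mul (.mul (.mul (.mul (.mul (.mul (.l 1) (.l 5)) (.l 1)) (.l 5)) (.l 7)) (.l 5)) (.l 1)) (.l 5)) (.l 6)) (.l 1)) (.l 6)) (.l 1)) (.l 7), .mul (.mul (.mul (.mul (.mul (.mul (.mul (.mul (.mul (.mul (.mul (.mul (.l 1) (.l 5)) (.l 1)) (.l 5)) (.l 7)) (.l 5)) (.l 1)) (.l 6)) (.l 1)) (.l 6)) (.l 1)) (.l 5)) (.l 7),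 .mul (.mul (.mul (.mul (.mul (.mul (.mul (.mul (.mul (.mul (.mul (.mul (.l 1) (.l 5)) (.l 1)) (.l 5)) (.l 7)) (.l 5)) (.l 6)) (.l 1)) (.l 5)) (.l 6)) (.l 5)) (.l 6)) (.l 7), .mul (.mul (.mul (.mul (.mul (.mul (.mul (.mul (.mul (.mul (.mul (.mul (.l 1) (.l 5)) (.l 1)) (.l 5)) (.l 7)) (.l 6)) (.l 5)) (.l 6)) (.l 5)) (.l 1)) (.l 6)) (.l 5)) (.l 7), .mul (.mul (.mul (.mul (.mul (.mul (.mul (.mul (.mul (.mul (.mul (.mul (.l 1) (.l 5)) (.l 1)) (.l 6)) (.l 1)) (.l 5)) (.l 6)) (.l 1)) (.l 5)) (.l 6)) (.l 7)) (.l 1)) (.l 7), .mul (.mul (.mul (.mul (.mul (.mul (.mul (.mul (.mul (.mul (.mul (.mul (.l 1) (.l 5)) (.l 1)) (.l 6)) (.l 1)) (.l 5)) (.l 7)) (.l 1)) (.l 7)) (.l 6)) (.l 1)) (.l 5)) (.l 6), .mul (.mul (.mul (.mul (.mul (.mul (.mul (.mul (.mul (.mul (.mul (.mul (.l 1) (.l 5)) (.l 1)) (.l 6)) (.l 1)) (.l 6)) (.l 7)) (.l 1)) (.l 5)) (.l 1)) (.l 7)) (.l 5)) (.l 7), .mul (.mul (.mul (.mul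 (.mul (.mul (.mul (.mul (.mul (.mul (.mul (.mul (.l 1) (.l 5)) (.l 1)) (.l 6)) (.l 5)) (.l 1)) (.l 5)) (.l 6)) (.l 1)) (.l 5)) (.l 7)) (.l 1)) (.l 7), .mul (.mul (.mul (.mul (.mul (.mul (.mul (.mul (.mul (.mul (.mul (.mul (.l 1) (.l 5)) (.l 1)) (.l 6)) (.l 7)) (.l 1)) (.l 6)) (.l 7)) (.l 5)) (.l 6)) (.l 7)) (.l 6)) (.l 7), .mul (.mul (.mul (.mul (.mul (.mul (.mul (.mul (.mul (.mul (.mul (.mul (.l 1) (.l 5)) (.l 1)) (.l 7)) (.l 1)) (.l 6)) (.l 1)) (.l 6)) (.l 5)) (.l 1)) (.l 7)) (.l 5)) (.l 7), .mul (.mul (.mul (.mul (.mul (.mul (.mul (.mul (.mul (.mul (.mul (.mul (.l 1) (.l 5)) (.l 6)) (.l 1)) (.l 5)) (.l 6)) (.l 1)) (.l 7)) (.l 1)) (.l 7)) (.l 5)) (.l 1)) (.l 6), .mul (.mul (.mul (.mul (.mul (.mul (.mul (.mul (.mul (.mul (.mul (.mul (.l 1) (.l 5)) (.l 6)) (.l 1)) (.l 7)) (.l 1)) (.l 6)) (.l 1)) (.l 6)) (.l 7)) (.l 1)) (.l 6)) (.l 5), .mul (.mul (.mul (.mul (.mul (.mul (.mul (.mul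 (.mul (.mul (.mul (.mul (.l 1) (.l 5)) (.l 6)) (.l 7)) (.l 1)) (.l 6)) (.l 1)) (.l 6)) (.l 7)) (.l 5)) (.l 6)) (.l 5)) (.l 6), .mul (.mul (.mul (.mul (.mul (.mul (.mul (.mul (.mul (.mul (.mul (.mul (.l 1) (.l 5)) (.l 6)) (.l 7)) (.l 1)) (.l 6)) (.l 1)) (.l 7)) (.l 5)) (.l 6)) (.l 7)) (.l 6)) (.l 7), .mul (.mul (.mul (.mul (.mul (.mul (.mul (.mul (.mul (.mul (.mul (.mul (.l 1) (.l 5)) (.l 6)) (.l 7)) (.l 1)) (.l 7)) (.l 6)) (.l 1)) (.l 7)) (.l 5)) (.l 7)) (.l 5)) (.l 7), .mul (.mul (.mul (.mul (.mul (.mul (.mul (.mul (.mul (.mul (.mul (.mul (.l 1) (.l 5)) (.l 6)) (.l 7)) (.l 5)) (.l 1)) (.l 5)) (.l 7)) (.l 6)) (.l 7)) (.l 1)) (.l 7)) (.l 5), .mul (.mul (.mul (.mul (.mul (.mul (.mul (.mul (.mul (.mul (.mul (.mul (.l 1) (.l 5)) (.l 6)) (.l 7)) (.l 5)) (.l 1)) (.l 6)) (.l 1)) (.l 6)) (.l 5)) (.l 7)) (.l 6)) (.l 5), .mul (.mul (.mul (.mul (.mul (.mul (.mul (.mul (.mul (.mul (.mul (.mul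 (.l 1) (.l 5)) (.l 6)) (.l 7)) (.l 5)) (.l 7)) (.l 5)) (.l 1)) (.l 7)) (.l 1)) (.l 6)) (.l 5)) (.l 6), .mul (.mul (.mul (.mul (.mul (.mul (.mul (.mul (.mul (.mul (.mul (.mul (.l 1) (.l 5)) (.l 6)) (.l 7)) (.l 6)) (.l 1)) (.l 6)) (.l 1)) (.l 7)) (.l 5)) (.l 6)) (.l 5)) (.l 6), .mul (.mul (.mul (.mul (.mul (.mul (.mul (.mul (.mul (.mul (.mul (.mul (.l 1) (.l 5)) (.l 7)) (.l 1)) (.l 5)) (.l 7)) (.l 1)) (.l 6)) (.l 5)) (.l 6)) (.l 5)) (.l 6)) (.l 7), .mul (.mul (.mul (.mul (.mul (.mul (.mul (.mul (.mul (.mul (.mul (.mul (.l 1) (.l 5)) (.l 7)) (.l 1)) (.l 6)) (.l 5)) (.l 7)) (.l 1)) (.l 7)) (.l 5)) (.l 6)) (.l 7)) (.l 5), .mul (.mul (.mul (.mul (.mul (.mul (.mul (.mul (.mul (.mul (.mul (.mul (.l 1) (.l 6)) (.l 5)) (.l 7)) (.l 6)) (.l 1)) (.l 6)) (.l 7)) (.l 5)) (.l 6)) (.l 7)) (.l 1)) (.l 7), .mul (.mul (.mul (.mul (.mul (.mul (.mul (.mul (.mul (.mul (.mul (.mul (.l 1) (.l 6)) (.l 5))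 (.l 7)) (.l 6)) (.l 1)) (.l 7)) (.l 6)) (.l 5)) (.l 7)) (.l 6)) (.l 1)) (.l 7), .mul (.mul (.mul (.mul (.mul (.mul (.mul (.mul (.mul (.mul (.mul (.mul (.l 1) (.l 6)) (.l 7)) (.l 6)) (.l 7)) (.l 1)) (.l 7)) (.l 6)) (.l 7)) (.l 6)) (.l 7)) (.l 1)) (.l 7), .mul (.mul (.mul (.mul (.mul (.mul (.mul (.mul (.mul (.mul (.mul (.mul (.mul (.l 1) (.l 5)) (.l 1)) (.l 5)) (.l 6)) (.l 5)) (.l 7)) (.l 5)) (.l 1)) (.l 5)) (.l 7)) (.l 1)) (.l 5)) (.l 6), .mul (.mul (.mul (.mul (.mul (.mul (.mul (.mul (.mul (.mul (.mul (.mul (.mul (.l 1) (.l 5)) (.l 1)) (.l 5)) (.l 7)) (.l 1)) (.l 6)) (.l 1)) (.l 7)) (.l 1)) (.l 7)) (.l 6)) (.l 1)) (.l 7), .mul (.mul (.mul (.mul (.mul (.mul (.mul (.mul (.mul (.mul (.mul (.mul (.mul (.l 1) (.l 5)) (.l 1)) (.l 5)) (.l 7)) (.l 1)) (.l 6)) (.l 7)) (.l 1)) (.l 7)) (.l 1)) (.l 6)) (.l 1)) (.l 7), .mul (.mul (.mul (.mul (.mul (.mul (.mul (.mul (.mul (.mul (.mul (.mul (.mul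 (.l 1) (.l 5)) (.l 1)) (.l 6)) (.l 1)) (.l 5)) (.l 6)) (.l 7)) (.l 5)) (.l 7)) (.l 5)) (.l 7)) (.l 1)) (.l 6), .mul (.mul (.mul (.mul (.mul (.mul (.mul (.mul (.mul (.mul (.mul (.mul (.mul (.l 1) (.l 5)) (.l 1)) (.l 6)) (.l 1)) (.l 6)) (.l 5)) (.l 7)) (.l 1)) (.l 6)) (.l 1)) (.l 6)) (.l 1)) (.l 7), .mul (.mul (.mul (.mul (.mul (.mul (.mul (.mul (.mul (.mul (.mul (.mul (.mul (.l 1) (.l 5)) (.l 1)) (.l 6)) (.l 1)) (.l 7)) (.l 6)) (.l 7)) (.l 5)) (.l 6)) (.l 7)) (.l 1)) (.l 6)) (.l 7), .mul (.mul (.mul (.mul (.mul (.mul (.mul (.mul (.mul (.mul (.mul (.mul (.mul (.l 1) (.l 5)) (.l 1)) (.l 6)) (.l 5)) (.l 1)) (.l 5)) (.l 6)) (.l 7)) (.l 5)) (.l 1)) (.l 7)) (.l 5)) (.l 7), .mul (.mul (.mul (.mul (.mul (.mul (.mul (.mul (.mul (.mul (.mul (.mul (.mul (.l 1) (.l 5)) (.l 1)) (.l 6)) (.l 5)) (.l 1)) (.l 6)) (.l 5)) (.l 7)) (.l 5)) (.l 1)) (.l 5)) (.l 7)) (.l 6), .mul (.mul (.mul (.mul (.mul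 (.mul (.mul (.mul (.mul (.mul (.mul (.mul (.mul (.l 1) (.l 5)) (.l 1)) (.l 6)) (.l 5)) (.l 1)) (.l 6)) (.l 7)) (.l 5)) (.l 7)) (.l 1)) (.l 5)) (.l 7)) (.l 6), .mul (.mul (.mul (.mul (.mul (.mul (.mul (.mul (.mul (.mul (.mul (.mul (.mul (.l 1) (.l 5)) (.l 1)) (.l 6)) (.l 5)) (.l 6)) (.l 1)) (.l 5)) (.l 6)) (.l 7)) (.l 5)) (.l 1)) (.l 5)) (.l 7), .mul (.mul (.mul (.mul (.mul (.mul (.mul (.mul (.mul (.mul (.mul (.mul (.mul (.l 1) (.l 5)) (.l 1)) (.l 6)) (.l 7)) (.l 6)) (.l 7)) (.l 5)) (.l 6)) (.l 1)) (.l 7)) (.l 1)) (.l 6)) (.l 7), .mul (.mul (.mul (.mul (.mul (.mul (.mul (.mul (.mul (.mul (.mul (.mul (.mul (.l 1) (.l 5)) (.l 1)) (.l 7)) (.l 1)) (.l 7)) (.l 5)) (.l 1)) (.l 7)) (.l 1)) (.l 6)) (.l 1)) (.l 6)) (.l 7), .mul (.mul (.mul (.mul (.mul (.mul (.mul (.mul (.mul (.mul (.mul (.mul (.mul (.l 1) (.l 5)) (.l 1)) (.l 7)) (.l 5)) (.l 7)) (.l 5)) (.l 6)) (.l 1)) (.l 7)) (.l 1)) (.l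 7)) (.l 6)) (.l 7), .mul (.mul (.mul (.mul (.mul (.mul (.mul (.mul (.mul (.mul (.mul (.mul (.mul (.l 1) (.l 5)) (.l 1)) (.l 7)) (.l 6)) (.l 1)) (.l 6)) (.l 5)) (.l 7)) (.l 5)) (.l 6)) (.l 1)) (.l 6)) (.l 7), .mul (.mul (.mul (.mul (.mul (.mul (.mul (.mul (.mul (.mul (.mul (.mul (.mul (.l 1) (.l 5)) (.l 6)) (.l 1)) (.l 5)) (.l 6)) (.l 1)) (.l 5)) (.l 7)) (.l 5)) (.l 1)) (.l 5)) (.l 7)) (.l 6), .mul (.mul (.mul (.mul (.mul (.mul (.mul (.mul (.mul (.mul (.mul (.mul (.mul (.l 1) (.l 5)) (.l 6)) (.l 1)) (.l 5)) (.l 6)) (.l 7)) (.l 1)) (.l 7)) (.l 5)) (.l 6)) (.l 7)) (.l 1)) (.l 7), .mul (.mul (.mul (.mul (.mul (.mul (.mul (.mul (.mul (.mul (.mul (.mul (.mul (.l 1) (.l 5)) (.l 6)) (.l 1)) (.l 5)) (.l 7)) (.l 1)) (.l 7)) (.l 5)) (.l 6)) (.l 7)) (.l 1)) (.l 7)) (.l 5), .mul (.mul (.mul (.mul (.mul (.mul (.mul (.mul (.mul (.mul (.mul (.mul (.mul (.l 1) (.l 5)) (.l 6)) (.l 1)) (.l 5)) (.l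 7)) (.l 1)) (.l 7)) (.l 6)) (.l 7)) (.l 1)) (.l 7)) (.l 5)) (.l 6), .mul (.mul (.mul (.mul (.mul (.mul (.mul (.mul (.mul (.mul (.mul (.mul (.mul (.l 1) (.l 5)) (.l 6)) (.l 1)) (.l 6)) (.l 1)) (.l 5)) (.l 7)) (.l 1)) (.l 6)) (.l 1)) (.l 6)) (.l 1)) (.l 7), .mul (.mul (.mul (.mul (.mul (.mul (.mul (.mul (.mul (.mul (.mul (.mul (.mul (.l 1) (.l 5)) (.l 6)) (.l 1)) (.l 6)) (.l 1)) (.l 7)) (.l 6)) (.l 7)) (.l 1)) (.l 7)) (.l 6)) (.l 7)) (.l 5), .mul (.mul (.mul (.mul (.mul (.mul (.mul (.mul (.mul (.mul (.mul (.mul (.mul (.l 1) (.l 5)) (.l 6)) (.l 1)) (.l 6)) (.l 5)) (.l 1)) (.l 5)) (.l 7)) (.l 6)) (.l 1)) (.l 6)) (.l 7)) (.l 5), .mul (.mul (.mul (.mul (.mul (.mul (.mul (.mul (.mul (.mul (.mul (.mul (.mul (.l 1) (.l 5)) (.l 6)) (.l 1)) (.l 6)) (.l 5)) (.l 1)) (.l 7)) (.l 6)) (.l 7)) (.l 1)) (.l 7)) (.l 6)) (.l 7), .mul (.mul (.mul (.mul (.mul (.mul (.mul (.mul (.mul (.mul (.mul (.mul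 (.mul (.l 1) (.l 5)) (.l 6)) (.l 1)) (.l 7)) (.l 1)) (.l 6)) (.l 5)) (.l 1)) (.l 5)) (.l 6)) (.l 7)) (.l 6)) (.l 5), .mul (.mul (.mul (.mul (.mul (.mul (.mul (.mul (.mul (.mul (.mul (.mul (.mul (.l 1) (.l 5)) (.l 6)) (.l 1)) (.l 7)) (.l 5)) (.l 1)) (.l 5)) (.l 7)) (.l 5)) (.l 1)) (.l 5)) (.l 6)) (.l 5), .mul (.mul (.mul (.mul (.mul (.mul (.mul (.mul (.mul (.mul (.mul (.mul (.mul (.l 1) (.l 5)) (.l 6)) (.l 1)) (.l 7)) (.l 5)) (.l 1)) (.l 5)) (.l 7)) (.l 5)) (.l 1)) (.l 6)) (.l 5)) (.l 6), .mul (.mul (.mul (.mul (.mul (.mul (.mul (.mul (.mul (.mul (.mul (.mul (.mul (.l 1) (.l 5)) (.l 6)) (.l 1)) (.l 7)) (.l 6)) (.l 1)) (.l 6)) (.l 7)) (.l 5)) (.l 6)) (.l 5)) (.l 1)) (.l 6), .mul (.mul (.mul (.mul (.mul (.mul (.mul (.mul (.mul (.mul (.mul (.mul (.mul (.l 1) (.l 5)) (.l 6)) (.l 1)) (.l 7)) (.l 6)) (.l 1)) (.l 7)) (.l 5)) (.l 6)) (.l 7)) (.l 1)) (.l 6)) (.l 7), .mul (.mul (.mul (.mul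 (.mul (.mul (.mul (.mul (.mul (.mul (.mul (.mul (.mul (.l 1) (.l 5)) (.l 6)) (.l 5)) (.l 1)) (.l 6)) (.l 1)) (.l 5)) (.l 6)) (.l 7)) (.l 6)) (.l 1)) (.l 6)) (.l 7), .mul (.mul (.mul (.mul (.mul (.mul (.mul (.mul (.mul (.mul (.mul (.mul (.mul (.l 1) (.l 5)) (.l 6)) (.l 5)) (.l 6)) (.l 7)) (.l 5)) (.l 1)) (.l 7)) (.l 1)) (.l 5)) (.l 7)) (.l 1)) (.l 6), .mul (.mul (.mul (.mul (.mul (.mul (.mul (.mul (.mul (.mul (.mul (.mul (.mul (.l 1) (.l 5)) (.l 6)) (.l 5)) (.l 6)) (.l 7)) (.l 6)) (.l 7)) (.l 1)) (.l 6)) (.l 5)) (.l 7)) (.l 6)) (.l 7), .mul (.mul (.mul (.mul (.mul (.mul (.mul (.mul (.mul (.mul (.mul (.mul (.mul (.l 1) (.l 5)) (.l 6)) (.l 5)) (.l 7)) (.l 1)) (.l 7)) (.l 5)) (.l 1)) (.l 6)) (.l 7)) (.l 1)) (.l 7)) (.l 5), .mul (.mul (.mul (.mul (.mul (.mul (.mul (.mul (.mul (.mul (.mul (.mul (.mul (.l 1) (.l 5)) (.l 6)) (.l 5)) (.l 7)) (.l 5)) (.l 6)) (.l 5)) (.l 1)) (.l 7)) (.l 5))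 (.l 6)) (.l 5)) (.l 7), .mul (.mul (.mul (.mul (.mul (.mul (.mul (.mul (.mul (.mul (.mul (.mul (.mul (.l 1) (.l 5)) (.l 6)) (.l 5)) (.l 7)) (.l 5)) (.l 6)) (.l 5)) (.l 1)) (.l 7)) (.l 6)) (.l 5)) (.l 6)) (.l 7), .mul (.mul (.mul (.mul (.mul (.mul (.mul (.mul (.mul (.mul (.mul (.mul (.mul (.l 1) (.l 5)) (.l 6)) (.l 5)) (.l 7)) (.l 6)) (.l 5)) (.l 6)) (.l 1)) (.l 7)) (.l 5)) (.l 6)) (.l 5)) (.l 7), .mul (.mul (.mul (.mul (.mul (.mul (.mul (.mul (.mul (.mul (.mul (.mul (.mul (.l 1) (.l 5)) (.l 6)) (.l 7)) (.l 1)) (.l 7)) (.l 5)) (.l 6)) (.l 1)) (.l 7)) (.l 1)) (.l 7)) (.l 5)) (.l 6), .mul (.mul (.mul (.mul (.mul (.mul (.mul (.mul (.mul (.mul (.mul (.mul (.mul (.l 1) (.l 5)) (.l 6)) (.l 7)) (.l 1)) (.l 7)) (.l 6)) (.l 7)) (.l 5)) (.l 1)) (.l 7)) (.l 5)) (.l 1)) (.l 7), .mul (.mul (.mul (.mul (.mul (.mul (.mul (.mul (.mul (.mul (.mul (.mul (.mul (.l 1) (.l 5)) (.l 6)) (.l 7)) (.l 5))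 (.l 1)) (.l 7)) (.l 1)) (.l 5)) (.l 7)) (.l 6)) (.l 5)) (.l 1)) (.l 6), .mul (.mul (.mul (.mul (.mul (.mul (.mul (.mul (.mul (.mul (.mul (.mul (.mul (.l 1) (.l 5)) (.l 6)) (.l 7)) (.l 5)) (.l 6)) (.l 5)) (.l 7)) (.l 6)) (.l 5)) (.l 1)) (.l 6)) (.l 7)) (.l 6), .mul (.mul (.mul (.mul (.mul (.mul (.mul (.mul (.mul (.mul (.mul (.mul (.mul (.l 1) (.l 5)) (.l 6)) (.l 7)) (.l 5)) (.l 7)) (.l 6)) (.l 5)) (.l 1)) (.l 7)) (.l 5)) (.l 6)) (.l 5)) (.l 7), .mul (.mul (.mul (.mul (.mul (.mul (.mul (.mul (.mul (.mul (.mul (.mul (.mul (.l 1) (.l 5)) (.l 6)) (.l 7)) (.l 6)) (.l 1)) (.l 7)) (.l 5)) (.l 6)) (.l 1)) (.l 7)) (.l 1)) (.l 6)) (.l 7), .mul (.mul (.mul (.mul (.mul (.mul (.mul (.mul (.mul (.mul (.mul (.mul (.mul (.l 1) (.l 5)) (.l 6)) (.l 7)) (.l 6)) (.l 5)) (.l 6)) (.l 7)) (.l 6)) (.l 5)) (.l 1)) (.l 6)) (.l 7)) (.l 6), .mul (.mul (.mul (.mul (.mul (.mul (.mul (.mul (.mul (.mul (.mul (.mul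 (.mul (.l 1) (.l 5)) (.l 6)) (.l 7)) (.l 6)) (.l 7)) (.l 6)) (.l 5)) (.l 1)) (.l 6)) (.l 5)) (.l 7)) (.l 6)) (.l 7), .mul (.mul (.mul (.mul (.mul (.mul (.mul (.mul (.mul (.mul (.mul (.mul (.mul (.l 1) (.l 5)) (.l 7)) (.l 1)) (.l 5)) (.l 7)) (.l 5)) (.l 6)) (.l 7)) (.l 1)) (.l 7)) (.l 6)) (.l 1)) (.l 7), .mul (.mul (.mul (.mul (.mul (.mul (.mul (.mul (.mul (.mul (.mul (.mul (.mul (.l 1) (.l 5)) (.l 7)) (.l 1)) (.l 6)) (.l 1)) (.l 7)) (.l 5)) (.l 1)) (.l 5)) (.l 7)) (.l 6)) (.l 7)) (.l 5), .pow (.mul (.mul (.mul (.mul (.mul (.mul (.l 1) (.l 5)) (.l 7)) (.l 1)) (.l 6)) (.l 7)) (.l 5)) 2, .pow (.mul (.mul (.mul (.mul (.mul (.mul (.l 1) (.l 5)) (.l 7)) (.l 1)) (.l 6)) (.l 7)) (.l 6)) 2, .mul (.mul (.mul (.mul (.mul (.mul (.mul (.mul (.mul (.mul (.mul (.mul (.mul (.l 1) (.l 5)) (.l 7)) (.l 1)) (.l 7)) (.l 5)) (.l 1)) (.l 6)) (.l 5)) (.l 7)) (.l 1)) (.l 7)) (.l 5)) (.l 6), .mul (.mul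 (.mul (.mul (.mul (.mul (.mul (.mul (.mul (.mul (.mul (.mul (.mul (.l 1) (.l 5)) (.l 7)) (.l 5)) (.l 6)) (.l 7)) (.l 5)) (.l 1)) (.l 5)) (.l 7)) (.l 6)) (.l 5)) (.l 7)) (.l 5), .mul (.mul (.mul (.mul (.mul (.mul (.mul (.mul (.mul (.mul (.mul (.mul (.mul (.l 1) (.l 5)) (.l 7)) (.l 5)) (.l 6)) (.l 7)) (.l 5)) (.l 1)) (.l 7)) (.l 6)) (.l 5)) (.l 7)) (.l 5)) (.l 6), .mul (.mul (.mul (.mul (.mul (.mul (.mul (.mul (.mul (.mul (.mul (.mul (.mul (.l 1) (.l 5)) (.l 7)) (.l 5)) (.l 6)) (.l 7)) (.l 5)) (.l 1)) (.l 7)) (.l 6)) (.l 7)) (.l 5)) (.l 7)) (.l 6), .pow (.mul (.mul (.mul (.mul (.mul (.mul (.l 1) (.l 5)) (.l 7)) (.l 6)) (.l 1)) (.l 6)) (.l 7)) 2, .mul (.mul (.mul (.mul (.mul (.mul (.mul (.mul (.mul (.mul (.mul (.mul (.mul (.l 1) (.l 5)) (.l 7)) (.l 6)) (.l 7)) (.l 1)) (.l 6)) (.l 5)) (.l 7)) (.l 1)) (.l 6)) (.l 7)) (.l 1)) (.l 6), .mul (.mul (.mul (.mul (.mul (.mul (.mul (.mul (.mul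 (.mul (.mul (.mul (.mul (.l 1) (.l 5)) (.l 7)) (.l 6)) (.l 7)) (.l 1)) (.l 7)) (.l 6)) (.l 7)) (.l 5)) (.l 1)) (.l 6)) (.l 1)) (.l 6), .mul (.mul (.mul (.mul (.mul (.mul (.mul (.mul (.mul (.mul (.mul (.mul (.mul (.l 1) (.l 5)) (.l 7)) (.l 6)) (.l 7)) (.l 5)) (.l 6)) (.l 5)) (.l 6)) (.l 7)) (.l 1)) (.l 6)) (.l 7)) (.l 6), .mul (.mul (.mul (.mul (.mul (.mul (.mul (.mul (.mul (.mul (.mul (.mul (.mul (.l 1) (.l 5)) (.l 7)) (.l 6)) (.l 7)) (.l 5)) (.l 7)) (.l 1)) (.l 6)) (.l 5)) (.l 7)) (.l 5)) (.l 6)) (.l 7), .mul (.mul (.mul (.mul (.mul (.mul (.mul (.mul (.mul (.mul (.mul (.mul (.mul (.l 1) (.l 6)) (.l 5)) (.l 7)) (.l 1)) (.l 6)) (.l 7)) (.l 1)) (.l 7)) (.l 6)) (.l 1)) (.l 7)) (.l 5)) (.l 6), .mul (.mul (.mul (.mul (.mul (.mul (.mul (.mul (.mul (.mul (.mul (.mul (.mul (.l 1) (.l 6)) (.l 5)) (.l 7)) (.l 6)) (.l 7)) (.l 1)) (.l 6)) (.l 7)) (.l 5)) (.l 7)) (.l 5)) (.l 6)) (.l 7), .mul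 (.mul (.mul (.mul (.mul (.mul (.mul (.mul (.mul (.mul (.mul (.mul (.mul (.l 1) (.l 6)) (.l 7)) (.l 6)) (.l 1)) (.l 7)) (.l 6)) (.l 7)) (.l 6)) (.l 7)) (.l 6)) (.l 7)) (.l 6)) (.l 7), .mul (.mul (.mul (.mul (.mul (.mul (.mul (.mul (.mul (.mul (.mul (.mul (.mul (.l 5) (.l 6)) (.l 5)) (.l 6)) (.l 7)) (.l 6)) (.l 7)) (.l 6)) (.l 7)) (.l 5)) (.l 7)) (.l 5)) (.l 6)) (.l 7)]

/-- relators of `McL` -/
def relG : List W := relG0 ++ relG1 ++ relG2

theorem hh_relG : ∀ t ∈ relG0, t.ev hh.gam = 1 := hh_ok.rels (by decide +kernel)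

theorem m1_relG : ∀ t ∈ relG1, t.ev m1.gam = 1 := m1_ok.rels (by decide +kernel)

theorem m2_relG : ∀ t ∈ relG2, t.ev m2.gam = 1 := m2_ok.rels (by decide +kernel)

end Cfsg.Lib.McR
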